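import Groth.Agent.ParaFLib.Local
import Groth.Agent.PicUFDLib.Main
import Groth.Agent.Ref1Lib.DivProps
import Groth.Agent.S9247

/-!
# The punctured spectrum of a normal local domain
-/

set_option autoImplicit false
set_option linter.style.haveILetI false
universe u

open CategoryTheory AlgebraicGeometry TopologicalSpace Opposite
open AmpleLib (res GenOn)

noncomputable section

namespace ParaFLib

variable (A : Type u) [CommRing A] [IsDomain A]

theorem isNormal_spec [IsIntegrallyClosed A] : Pi1.IsNormalScheme (Spec (CommRingCat.of A)) := fun y => by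
  let S := (Spec (CommRingCat.of A)).presheaf.stalk y
  letI : Algebra A S := (StructureSheaf.toStalk A y).hom.toAlgebra
  haveI : IsLocalization.AtPrime S y.asIdeal := StructureSheaf.IsLocalization.to_stalk A y
  haveI : IsDomain S := IsLocalization.isDomain_of_atPrime S y.asIdeal
  exact ⟨inferInstance, isIntegrallyClosed_of_isLocalization S y.asIdeal.primeCompl
    (Ideal.primeCompl_le_nonZeroDivisors _)⟩

theorem ufd_stalk_spec [UniqueFactorizationMonoid A] (y : Spec (CommRingCat.of A)) :
    UniqueFactorizationMonoid ((Spec (CommRingCat.of A)).presheaf.stalk y) := by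
  let S := (Spec (CommRingCat.of A)).presheaf.stalk y
  letI : Algebra A S := (StructureSheaf.toStalk A y).hom.toAlgebra
  haveI : IsLocalization.AtPrime S y.asIdeal := StructureSheaf.IsLocalization.to_stalk A y
  haveI : IsDomain S := IsLocalization.isDomain_of_atPrime S y.asIdeal
  exact Groth.Agent.S9247.ufd_localization y.asIdeal.primeCompl S

theorem picTrivial_of_ufd [IsLocalRing A] [UniqueFactorizationMonoid A] :
    ParaF.PicTrivial (FEt.puncturedSpec A : Scheme.{u}) := fun L hL => by
  haveI : UniqueFactorizationMonoid Γ(Spec (CommRingCat.of A), ⊤) :=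
    (Scheme.ΓSpecIso (CommRingCat.of A)).commRingCatIsoToRingEquiv.symm.toMulEquiv.uniqueFactorizationMonoid
      inferInstance
  exact PicUFDLib.nonempty_iso_of_ufd _ L hL

theorem coheight_closedPoint_ne [IsLocalRing A] [IsNoetherianRing A] (hdim : (2 : WithBot ℕ∞) ≤ ringKrullDim A) :
    (2 : ℕ∞) ≤ Order.coheight (show Spec (CommRingCat.of A) from IsLocalRing.closedPoint A) := by
  let x : Spec (CommRingCat.of A) := IsLocalRing.closedPoint A
  have h := ringKrullDim_stalk_eq_coheight x
  let S := (Spec (CommRingCat.of A)).presheaf.stalk x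
  letI : Algebra A S := (StructureSheaf.toStalk A x).hom.toAlgebra
  haveI : IsLocalization.AtPrime S x.asIdeal := StructureSheaf.IsLocalization.to_stalk A x
  rw [IsLocalization.AtPrime.ringKrullDim_eq_height x.asIdeal S,
    show x.asIdeal = IsLocalRing.maximalIdeal A from rfl, IsLocalRing.maximalIdeal_height_eq_ringKrullDim] at h
  rw [h] at hdim
  exact WithBot.coe_le_coe.1 (by exact hdim)

theorem h0_of_normal [IsLocalRing A] [IsNoetherianRing A] [IsIntegrallyClosed A]
    (hdim : (2 : WithBot ℕ∞) ≤ ringKrullDim A) : H0 (FEt.puncturedSpec A) := by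
  rw [h0_puncturedSpec_iff]
  let X := Spec (CommRingCat.of A)
  have hX := isNormal_spec A
  have hne : ∀ y : X, Order.coheight y = 1 → y ∈ FEt.puncturedSpec A := fun y hy (he : y = IsLocalRing.closedPoint A) => by
    have := coheight_closedPoint_ne A hdim
    rw [← he, hy] at this
    exact absurd this (by decide)
  haveI : Nonempty (⊤ : X.Opens) := ⟨⟨IsLocalRing.closedPoint A, trivial⟩⟩
  have hη : genericPoint X ∈ FEt.puncturedSpec A := fun (he : genericPoint X = IsLocalRing.closedPoint A) => by
    have := coheight_closedPoint_ne A hdim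
    rw [← he, Order.coheight_eq_zero.2 (fun y _ => Scheme.le_iff_specializes.2 (RefHullLib.specializes_generic y))] at this
    exact absurd this (by decide)
  refine ⟨fun a b e => germ_injective_of_isIntegral X (genericPoint X) (U := ⊤) trivial ?_, fun s => ?_⟩
  · have h := congrArg (X.presheaf.germ (FEt.puncturedSpec A) _ hη) e
    rwa [TopCat.Presheaf.germ_res_apply, TopCat.Presheaf.germ_res_apply] at h
  · obtain ⟨r, hr⟩ := Ref1Lib.exists_section_of_reg' (U := (⊤ : X.Opens)) trivial
      (X.presheaf.germ (FEt.puncturedSpec A) (genericPoint X) hη s) fun x _ =>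
      CDivCoreLib.reg_of_coheight_one hX fun y _ hy =>
        ⟨X.presheaf.germ (FEt.puncturedSpec A) y (hne y hy) s, CDivCoreLib.algebraMap_germ (hne y hy) hη s⟩
    haveI : Nonempty (FEt.puncturedSpec A : Scheme.{u}) := ⟨⟨_, hη⟩⟩
    refine ⟨r, germ_injective_of_isIntegral X (genericPoint X) hη ?_⟩
    rw [TopCat.Presheaf.germ_res_apply]
    exact hr

end ParaFLib

end
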