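import Groth.Agent.ParaFLib.Ext
import Groth.Prelude.Def_FEt

/-!
# Parafactorial local rings
-/

set_option autoImplicit false
set_option linter.style.haveILetI false
universe u

open CategoryTheory AlgebraicGeometry TopologicalSpace Opposite
open AmpleLib (res GenOn)

noncomputable section

namespace ParaFLib

variable {X : Scheme.{u}}

theorem exists_genOn_of_iso {U : X.Opens} {M : X.Modules}
    (e : M.restrict U.ι ≅ Coh.structureModule (U : Scheme.{u})) : ∃ σ : Γ(M, U), GenOn M σ := by
  have h := Ref1Lib.genOn_of_restrict (genOn_iso e.symm (AmpleLib.one_genOn (X := (U : Scheme.{u})) ⊤))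
  exact ⟨_, h.res (Scheme.Opens.ι_image_top U).ge⟩

theorem picTrivial_iff (U : X.Opens) :
    ParaF.PicTrivial (U : Scheme.{u}) ↔ ∀ M : X.Modules, InvOn M U → ∃ σ : Γ(M, U), GenOn M σ := by
  refine ⟨fun h M hM => ?_, fun h L hL => ?_⟩
  · obtain ⟨e⟩ := h _ (isInvertible_restrict_of_invOn hM)
    exact exists_genOn_of_iso e
  · obtain ⟨σ, hσ⟩ := h _ (invOn_push U hL)
    obtain ⟨j⟩ := TwistLib.nonempty_iso_of_genOn σ hσ
    exact ⟨(asIso ((Scheme.Modules.restrictAdjunction U.ι).counit.app L)).symm ≪≫ j⟩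

variable (A : Type u) [CommRing A] [IsLocalRing A]

theorem eq_top_of_closedPoint_mem {V : (Spec (CommRingCat.of A)).Opens}
    (h : IsLocalRing.closedPoint A ∈ V) : V = ⊤ :=
  top_le_iff.mp fun x _ => (IsLocalRing.specializes_closedPoint x).mem_open V.2 h

theorem h0_puncturedSpec_iff :
    H0 (FEt.puncturedSpec A) ↔ Function.Bijective ((Spec (CommRingCat.of A)).presheaf.map
      (homOfLE (le_top : FEt.puncturedSpec A ≤ ⊤)).op) := by
  constructor
  · exact fun h => bijective_map_congr (top_inf_eq _) inf_le_left le_top (h ⊤)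
  · intro h V
    by_cases hc : IsLocalRing.closedPoint A ∈ V
    · obtain rfl := eq_top_of_closedPoint_mem A hc
      exact bijective_map_congr (top_inf_eq _).symm le_top inf_le_left h
    · have e : V ⊓ FEt.puncturedSpec A = V :=
        inf_eq_left.2 fun x hx (he : x = IsLocalRing.closedPoint A) => hc (he ▸ hx)
      refine bijective_map_congr e.symm le_rfl inf_le_left ?_
      rw [show (homOfLE (le_refl V)).op = 𝟙 (op V) from rfl, CategoryTheory.Functor.map_id]
      exact Function.bijective_id

theorem extends_puncturedSpec_iff :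
    Extends (FEt.puncturedSpec A) ↔ ParaF.PicTrivial (FEt.puncturedSpec A : Scheme.{u}) := by
  rw [picTrivial_iff]
  constructor
  · intro h M hM
    obtain ⟨O, hxO, -, σ, hσ⟩ := h M ⊤ (by rw [top_inf_eq]; exact hM) (IsLocalRing.closedPoint A) trivial
    obtain rfl := eq_top_of_closedPoint_mem A hxO
    exact ⟨_, hσ.res (top_inf_eq _).ge⟩
  · intro h M V hM x hx
    by_cases hc : IsLocalRing.closedPoint A ∈ V
    · obtain rfl := eq_top_of_closedPoint_mem A hc
      rw [top_inf_eq] at hM
      obtain ⟨σ, hσ⟩ := h M hM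
      exact ⟨⊤, trivial, le_rfl, _, hσ.res (top_inf_eq _).le⟩
    · obtain ⟨O, hxO, hO, g, hg⟩ := hM x ⟨hx, fun he => hc (he ▸ hx)⟩
      exact ⟨O, hxO, hO.trans inf_le_left, _, hg.res inf_le_left⟩

theorem isParafactorialLocalRing_iff :
    ParaF.IsParafactorialLocalRing A ↔
      (Function.Bijective ((Spec (CommRingCat.of A)).presheaf.map
        (homOfLE (le_top : FEt.puncturedSpec A ≤ ⊤)).op) ∧
        ParaF.PicTrivial (FEt.puncturedSpec A : Scheme.{u})) := by
  rw [← h0_puncturedSpec_iff, ← extends_puncturedSpec_iff]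
  exact pair_iff _

end ParaFLib

end
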