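import Groth.Agent.ParaFLib.Basic
import Groth.Agent.UFDExtLib.Densify
import Groth.Agent.DiscExtLib.Main
import Groth.Agent.ModGlueLib.Basic
import Groth.Agent.Ref1Lib.Gen

/-!
# Parafactorial pairs by generators
-/

set_option autoImplicit false
set_option linter.style.haveILetI false
universe u

open CategoryTheory AlgebraicGeometry TopologicalSpace Opposite
open AmpleLib (res GenOn)

noncomputable section

namespace ParaFLib

/-- Functions extend uniquely across the complement of `U`. -/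
def H0 {X : Scheme.{u}} (U : X.Opens) : Prop :=
  ∀ V : X.Opens, Function.Bijective (X.presheaf.map (homOfLE (inf_le_left : V ⊓ U ≤ V)).op)

/-- `M` is invertible on `A`. -/
def InvOn {X : Scheme.{u}} (M : X.Modules) (A : X.Opens) : Prop :=
  ∀ y ∈ A, ∃ O : X.Opens, y ∈ O ∧ O ≤ A ∧ ∃ g : Γ(M, O), GenOn M g

/-- Invertible modules defined off the complement of `U` have a generator near every point. -/
def Extends {X : Scheme.{u}} (U : X.Opens) : Prop :=
  ∀ (M : X.Modules) (V : X.Opens), InvOn M (V ⊓ U) →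
    ∀ x ∈ V, ∃ O : X.Opens, x ∈ O ∧ O ≤ V ∧ ∃ σ : Γ(M, O ⊓ U), GenOn M σ

variable {X : Scheme.{u}}

theorem bijective_map_congr {U A B : X.Opens} (e : A = B) (hA : A ≤ U) (hB : B ≤ U)
    (h : Function.Bijective (X.presheaf.map (homOfLE hA).op)) :
    Function.Bijective (X.presheaf.map (homOfLE hB).op) := by
  subst e; exact h

theorem bijective_res_congr (M : X.Modules) {U A B : X.Opens} (e : A = B) (hA : A ≤ U) (hB : B ≤ U)
    (h : Function.Bijective (res M hA)) : Function.Bijective (res M hB) := by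
  subst e; exact h

theorem resBij_of_genOn {U : X.Opens} (hU : H0 U) {M : X.Modules} {O : X.Opens} {σ : Γ(M, O)}
    (hσ : GenOn M σ) {W : X.Opens} (hW : W ≤ O) :
    Function.Bijective (res M (inf_le_left : W ⊓ U ≤ W)) := by
  have h := (hσ (W ⊓ U) (inf_le_left.trans hW)).comp (hU W)
  have e : (fun r : Γ(X, W ⊓ U) => r • res M (inf_le_left.trans hW) σ) ∘
      ⇑(X.presheaf.map (homOfLE (inf_le_left : W ⊓ U ≤ W)).op) =
      res M (inf_le_left : W ⊓ U ≤ W) ∘ fun r : Γ(X, W) => r • res M hW σ := funext fun r => by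
    simp only [Function.comp_apply, AmpleLib.res_smul, AmpleLib.res_res]
  rw [e] at h
  exact (Function.Bijective.of_comp_iff _ (hσ W hW)).1 h

theorem resBij_of_local {U : X.Opens} {M : X.Modules}
    (h : ∀ x : X, ∃ O : X.Opens, x ∈ O ∧ ∀ W ≤ O, Function.Bijective (res M (inf_le_left : W ⊓ U ≤ W)))
    (W : X.Opens) : Function.Bijective (res M (inf_le_left : W ⊓ U ≤ W)) := by
  choose O hO hb using h
  have hinj : ∀ W : X.Opens, Function.Injective (res M (inf_le_left : W ⊓ U ≤ W)) := fun W a b e => by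
    refine RefHullLib.germ_ext M a b fun x hx => ?_
    have h1 : res M (inf_le_left : W ⊓ O x ≤ W) a = res M inf_le_left b :=
      (hb x (W ⊓ O x) inf_le_right).1 (by
        have h2 := congrArg (res M (inf_le_inf_right U inf_le_left : W ⊓ O x ⊓ U ≤ W ⊓ U)) e
        simpa only [AmpleLib.res_res] using h2)
    have h3 := congrArg (M.presheaf.germ (W ⊓ O x) x ⟨hx, hO x⟩) h1
    rwa [AmpleLib.germ_res, AmpleLib.germ_res] at h3
  refine ⟨hinj W, fun c => ?_⟩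
  choose a ha using fun x : W =>
    (hb x.1 (W ⊓ O x.1) inf_le_right).2 (res M (inf_le_inf_right U inf_le_left) c)
  obtain ⟨g, hg⟩ := ModGlueLib.exists_glue (M := M) (V := W) (fun x : W => W ⊓ O x.1)
    (fun _ => inf_le_left) (fun x hx => ⟨⟨x, hx⟩, hx, hO x⟩) a fun x y => hinj _ (by
      show res M _ (res M _ (a x)) = res M _ (res M _ (a y))
      rw [AmpleLib.res_res, AmpleLib.res_res,
        ← AmpleLib.res_res M inf_le_left (inf_le_inf_right U inf_le_left :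
          (W ⊓ O x.1) ⊓ (W ⊓ O y.1) ⊓ U ≤ W ⊓ O x.1 ⊓ U) (a x), ha,
        ← AmpleLib.res_res M inf_le_left (inf_le_inf_right U inf_le_right :
          (W ⊓ O x.1) ⊓ (W ⊓ O y.1) ⊓ U ≤ W ⊓ O y.1 ⊓ U) (a y), ha,
        AmpleLib.res_res, AmpleLib.res_res])
  refine ⟨g, RefHullLib.germ_ext M _ _ fun y hy => ?_⟩
  have h1 := congrArg (M.presheaf.germ (W ⊓ O y ⊓ U) y ⟨⟨hy.1, hO y⟩, hy.2⟩) (ha ⟨y, hy.1⟩)
  rw [AmpleLib.germ_res, AmpleLib.germ_res, ← hg ⟨y, hy.1⟩] at h1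
  rw [AmpleLib.germ_res]
  exact (AmpleLib.germ_res M (inf_le_left : W ⊓ O y ≤ W) g (x := y) ⟨hy.1, hO y⟩).symm.trans h1

theorem resBij_of_invertible {U : X.Opens} (hU : H0 U) {M : X.Modules} (hM : PicF.IsInvertible M)
    (W : X.Opens) : Function.Bijective (res M (inf_le_left : W ⊓ U ≤ W)) :=
  resBij_of_local (fun x => by
    obtain ⟨O, σ, hx, hσ⟩ := TwistLib.exists_genOn hM x
    exact ⟨O, hx, fun _ hW => resBij_of_genOn hU hσ hW⟩) W

section OpenImmersion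

variable {U₀ : Scheme.{u}} (j : U₀ ⟶ X) [IsOpenImmersion j]

theorem bijective_app_of_h0 (h : H0 j.opensRange) (W : X.Opens) : Function.Bijective (j.app W) := by
  have e : W ⊓ j.opensRange = j ''ᵁ (j ⁻¹ᵁ W) := by
    rw [Scheme.Hom.image_preimage_eq_opensRange_inf, inf_comm]
  have h1 := bijective_map_congr e inf_le_left (j.image_preimage_le W) (h W)
  rw [show X.presheaf.map (homOfLE (j.image_preimage_le W)).op =
    j.app W ≫ (j.appIso (j ⁻¹ᵁ W)).inv from (j.app_appIso_inv W).symm] at h1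
  exact (Function.Bijective.of_comp_iff' (ConcreteCategory.bijective_of_isIso (j.appIso (j ⁻¹ᵁ W)).inv) _).1 h1

theorem isIso_unit (h : H0 j.opensRange) {L : X.Modules} (hL : PicF.IsInvertible L) :
    IsIso ((Scheme.Modules.restrictAdjunction j).unit.app L) := by
  refine Scheme.Modules.Hom.isIso_iff_isIso_app.mpr fun W => (ConcreteCategory.isIso_iff_bijective _).mpr ?_
  rw [Scheme.Modules.restrictAdjunction_unit_app_app]
  exact bijective_res_congr L (by rw [Scheme.Hom.image_preimage_eq_opensRange_inf, inf_comm]) inf_le_left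
    (j.image_preimage_le W) (resBij_of_invertible h hL W)

theorem bijective_restrict_map (L : X.Modules) {L' : X.Modules}
    (hi : IsIso ((Scheme.Modules.restrictAdjunction j).unit.app L')) :
    Function.Bijective (fun φ : L ⟶ L' => (Scheme.Modules.restrictFunctor j).map φ) := by
  have e : (fun φ : L ⟶ L' => (Scheme.Modules.restrictFunctor j).map φ) =
      fun φ => ((Scheme.Modules.restrictAdjunction j).homEquiv _ _).symm
        (φ ≫ (Scheme.Modules.restrictAdjunction j).unit.app L') := funext fun φ => by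
    rw [Adjunction.homEquiv_counit, Functor.map_comp, Category.assoc]
    exact ((congrArg _ ((Scheme.Modules.restrictAdjunction j).left_triangle_components L')).trans
      (Category.comp_id _)).symm
  rw [e]
  exact (Equiv.bijective _).comp ⟨fun a b h => (cancel_mono _).1 h,
    fun ψ => ⟨ψ ≫ inv ((Scheme.Modules.restrictAdjunction j).unit.app L'), by simp⟩⟩

theorem genOn_push (h : ∀ W : X.Opens, Function.Bijective (j.app W)) {L₀ : U₀.Modules} {W : X.Opens}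
    {σ : Γ(L₀, j ⁻¹ᵁ W)} (hσ : GenOn L₀ σ) :
    GenOn ((Scheme.Modules.pushforward j).obj L₀) (W := W) σ := fun V hV =>
  (hσ (j ⁻¹ᵁ V) (j.preimage_mono hV)).comp (h V)

end OpenImmersion

theorem genOn_map {L A : X.Modules} (p : L ⟶ A) {O : X.Opens}
    (h : ∀ V : X.Opens, V ≤ O → Function.Bijective (p.app V)) {t : Γ(L, O)} (ht : GenOn L t) :
    GenOn A (p.app O t) := fun W hW => by
  have e : (fun r : Γ(X, W) => r • res A hW (p.app O t)) = (p.app W) ∘ fun r => r • res L hW t :=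
    funext fun r => ((QCohLib.app_smul p W r _).trans
      (congrArg (r • ·) (QCohLib.app_map p (homOfLE hW) t))).symm
  rw [e]
  exact (h W hW).comp (ht W hW)

theorem genOn_iso {L A : X.Modules} (e : L ≅ A) {O : X.Opens} {t : Γ(L, O)} (ht : GenOn L t) :
    GenOn A (e.hom.app O t) :=
  genOn_map e.hom (fun _ _ => ConcreteCategory.bijective_of_isIso _) ht

theorem invOn_push (A : X.Opens) {N : (A : Scheme.{u}).Modules} (hN : PicF.IsInvertible N) :
    InvOn ((Scheme.Modules.pushforward A.ι).obj N) A :=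
  fun _ hy => UFDExtLib.exists_gen_of_restrict (DiscExtLib.invertible_push_restrict N hN) hy

theorem isInvertible_restrict_of_invOn {M : X.Modules} {A : X.Opens} (h : InvOn M A) :
    PicF.IsInvertible (M.restrict A.ι) := by
  choose O hyO hOA g hg using fun y : A => h y.1 y.2
  exact TwistLib.isInvertible_of_genOn (fun y : A => A.ι ⁻¹ᵁ O y) (fun y => ⟨y, hyO y⟩) _
    fun y => (hg y).restrict A.ι (A.ι ⁻¹ᵁ O y) (A.ι.image_preimage_le _)

theorem range_homOfLE {U : X.Opens} (V : X.Opens) :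
    (X.homOfLE (inf_le_left : V ⊓ U ≤ V)).opensRange = V.ι ⁻¹ᵁ U := by
  rw [Scheme.opensRange_homOfLE]
  exact Opens.ext (Set.ext fun v => ⟨fun h => h.2, fun h => ⟨v.2, h⟩⟩)

theorem h0_homOfLE {U : X.Opens} (h : H0 U) (V : X.Opens) :
    H0 (X.homOfLE (inf_le_left : V ⊓ U ≤ V)).opensRange := fun W => by
  have e : V.ι ''ᵁ W ⊓ U = V.ι ''ᵁ (W ⊓ (X.homOfLE (inf_le_left : V ⊓ U ≤ V)).opensRange) := by
    rw [range_homOfLE]
    refine Opens.ext (Set.ext fun x => ⟨?_, ?_⟩)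
    · rintro ⟨⟨y, hy, rfl⟩, hU⟩; exact ⟨y, ⟨hy, hU⟩, rfl⟩
    · rintro ⟨y, ⟨hy, hU⟩, rfl⟩; exact ⟨⟨y, hy, rfl⟩, hU⟩
  exact bijective_map_congr e inf_le_left (V.ι.image_mono inf_le_left) (h _)

theorem invRestrictEquiv_of {U : X.Opens} (h : H0 U) (he : Extends U) (V : X.Opens) :
    ParaF.InvRestrictEquiv (X.homOfLE (inf_le_left : V ⊓ U ≤ V)) := by
  let j := X.homOfLE (inf_le_left : V ⊓ U ≤ V)
  have hj := h0_homOfLE h V
  refine ⟨fun L L' _ hL' => bijective_restrict_map j L (isIso_unit j hj hL'), fun L₀ hL₀ => ?_⟩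
  refine ⟨(Scheme.Modules.pushforward j).obj L₀, ?_,
    ⟨asIso ((Scheme.Modules.restrictAdjunction j).counit.app L₀)⟩⟩
  let A : X.Opens := V ⊓ U
  choose O hxO hOV σ hσ using fun x : V =>
    he ((Scheme.Modules.pushforward A.ι).obj L₀) V (invOn_push A hL₀) x.1 x.2
  have hle : ∀ x : V, A.ι ''ᵁ (j ⁻¹ᵁ (V.ι ⁻¹ᵁ O x)) ≤ O x ⊓ U := fun x => by
    rintro _ ⟨y, hy, rfl⟩
    refine ⟨?_, y.2.2⟩
    have h1 : (j ≫ V.ι) y ∈ O x := hy
    rwa [Scheme.homOfLE_ι] at h1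
  let c := asIso ((Scheme.Modules.restrictAdjunction A.ι).counit.app L₀)
  refine TwistLib.isInvertible_of_genOn (fun x : V => V.ι ⁻¹ᵁ O x) (fun x => ⟨x, hxO x⟩) _
    fun x => genOn_push j (bijective_app_of_h0 j hj) (W := V.ι ⁻¹ᵁ O x)
      (genOn_iso c ((hσ x).restrict A.ι (j ⁻¹ᵁ (V.ι ⁻¹ᵁ O x)) (hle x)))

theorem extends_of_pair {U : X.Opens}
    (h : ∀ V : X.Opens, ParaF.InvRestrictEquiv (X.homOfLE (inf_le_left : V ⊓ U ≤ V))) : Extends U := by
  intro M V hM x hx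
  let A : X.Opens := V ⊓ U
  let j := X.homOfLE (inf_le_left : V ⊓ U ≤ V)
  obtain ⟨L, hL, ⟨e⟩⟩ := (h V).2 (M.restrict A.ι) (isInvertible_restrict_of_invOn hM)
  obtain ⟨O', σ, hxO', hσ⟩ := TwistLib.exists_genOn hL (⟨x, hx⟩ : V)
  have h1 := genOn_iso e (hσ.restrict j (j ⁻¹ᵁ O') (j.image_preimage_le O'))
  have hle : (V.ι ''ᵁ O') ⊓ U ≤ A.ι ''ᵁ (j ⁻¹ᵁ O') := by
    rintro _ ⟨⟨v, hv, rfl⟩, hvU⟩
    refine ⟨⟨V.ι v, v.2, hvU⟩, ?_, rfl⟩
    show j _ ∈ O'
    rwa [show j ⟨V.ι v, v.2, hvU⟩ = v from V.ι.isOpenEmbedding.injective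
      (congr($(Scheme.homOfLE_ι X (inf_le_left : V ⊓ U ≤ V)) ⟨V.ι v, v.2, hvU⟩))]
  exact ⟨V.ι ''ᵁ O', ⟨⟨x, hx⟩, hxO', rfl⟩, fun _ ⟨v, _, e⟩ => e ▸ v.2, _,
    (Ref1Lib.genOn_of_restrict h1).res hle⟩

theorem unitSection_bijective {U₀ : Scheme.{u}} (j : U₀ ⟶ X) [IsOpenImmersion j] {L : X.Modules}
    (h : Function.Bijective (fun φ : Coh.structureModule X ⟶ L => (Scheme.Modules.restrictFunctor j).map φ)) :
    Function.Bijective (res L (le_top : j ''ᵁ ⊤ ≤ ⊤)) := by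
  constructor
  · intro a b hab
    have h1 : QCohLib.unitHom L a = QCohLib.unitHom L b := h.1 (RefHullLib.hom_ext_sections _ _ fun W r => by
      show (QCohLib.unitHom L a).app (j ''ᵁ W) r = (QCohLib.unitHom L b).app (j ''ᵁ W) r
      rw [QCohLib.unitHom_app, QCohLib.unitHom_app]
      have h2 := congrArg (res L (j.image_mono (le_top : W ≤ ⊤))) hab
      rw [AmpleLib.res_res, AmpleLib.res_res] at h2
      exact congrArg _ h2)
    have h2 := congrArg (fun φ : Coh.structureModule X ⟶ L => φ.app ⊤ (1 : Γ(X, ⊤))) h1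
    dsimp only at h2
    rwa [QCohLib.unitHom_app, QCohLib.unitHom_app, one_smul, one_smul, show
      L.presheaf.map (homOfLE (le_top : (⊤ : X.Opens) ≤ ⊤)).op a = a from AmpleLib.res_refl L a, show
      L.presheaf.map (homOfLE (le_top : (⊤ : X.Opens) ≤ ⊤)).op b = b from AmpleLib.res_refl L b] at h2
  · intro c
    obtain ⟨φ, hφ⟩ := h.2 ((Scheme.Modules.restrictUnitIso j).hom ≫
      QCohLib.unitHom (L.restrict j) (c : Γ(L.restrict j, ⊤)))
    refine ⟨φ.app ⊤ (1 : Γ(X, ⊤)), ?_⟩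
    have h1 := congr(($hφ).app ⊤ (1 : Γ(X, j ''ᵁ ⊤)))
    refine ((QCohLib.app_map φ (homOfLE (le_top : j ''ᵁ ⊤ ≤ ⊤)) (1 : Γ(X, ⊤))).symm.trans
      (congrArg _ (map_one (X.presheaf.map (homOfLE (le_top : j ''ᵁ ⊤ ≤ ⊤)).op).hom))).trans (h1.trans ?_)
    show (QCohLib.unitHom (L.restrict j) (c : Γ(L.restrict j, ⊤))).app ⊤ ((j.appIso ⊤).hom 1) = c
    rw [map_one, QCohLib.unitHom_app, one_smul]
    exact AmpleLib.res_refl (L.restrict j) _

theorem h0_of_pair {U : X.Opens}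
    (h : ∀ V : X.Opens, ParaF.InvRestrictEquiv (X.homOfLE (inf_le_left : V ⊓ U ≤ V))) : H0 U := fun V => by
  let j := X.homOfLE (inf_le_left : V ⊓ U ≤ V)
  have hO : PicF.IsInvertible (Coh.structureModule (V : Scheme.{u})) :=
    TwistLib.isInvertible_of_genOn (fun _ : Unit => (⊤ : (V : Scheme.{u}).Opens)) (fun _ => ⟨(), trivial⟩)
      (fun _ => (1 : Γ((V : Scheme.{u}), ⊤))) (fun _ => AmpleLib.one_genOn ⊤)
  have hb : Function.Bijective ((V : Scheme.{u}).presheaf.map (homOfLE (le_top : j ''ᵁ ⊤ ≤ ⊤)).op) :=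
    unitSection_bijective j ((h V).1 _ _ hO hO)
  have hV : V.ι ''ᵁ (⊤ : (V : Scheme.{u}).Opens) = V := Scheme.Opens.ι_image_top V
  have e : V.ι ''ᵁ (j ''ᵁ ⊤) = V.ι ''ᵁ ⊤ ⊓ U := by
    rw [Scheme.Hom.image_top_eq_opensRange, range_homOfLE, Scheme.Hom.image_preimage_eq_opensRange_inf,
      Scheme.Opens.opensRange_ι, hV]
  have h1 := bijective_map_congr e (V.ι.image_mono le_top) inf_le_left hb
  have : ∀ T : X.Opens, T = V → Function.Bijective (X.presheaf.map (homOfLE (inf_le_left : T ⊓ U ≤ T)).op) →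
      Function.Bijective (X.presheaf.map (homOfLE (inf_le_left : V ⊓ U ≤ V)).op) := fun T hT => hT ▸ id
  exact this _ hV h1

theorem pair_iff (Y : Closeds ↥X) : ParaF.IsParafactorialPair X Y ↔ H0 Y.compl ∧ Extends Y.compl :=
  ⟨fun h => ⟨h0_of_pair h, extends_of_pair h⟩, fun h => invRestrictEquiv_of h.1 h.2⟩

theorem image_inf_preimage (W : X.Opens) (U : X.Opens) (V : (W : Scheme.{u}).Opens) :
    W.ι ''ᵁ V ⊓ U = W.ι ''ᵁ (V ⊓ W.ι ⁻¹ᵁ U) := by
  refine Opens.ext (Set.ext fun x => ⟨?_, ?_⟩)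
  · rintro ⟨⟨y, hy, rfl⟩, hU⟩; exact ⟨y, ⟨hy, hU⟩, rfl⟩
  · rintro ⟨y, ⟨hy, hU⟩, rfl⟩; exact ⟨⟨y, hy, rfl⟩, hU⟩

theorem h0_preimage {U : X.Opens} (h : H0 U) (W : X.Opens) : H0 (W.ι ⁻¹ᵁ U) := fun V =>
  bijective_map_congr (image_inf_preimage W U V) inf_le_left (W.ι.image_mono inf_le_left) (h _)

theorem extends_preimage {U : X.Opens} (h : Extends U) (W : X.Opens) : Extends (W.ι ⁻¹ᵁ U) := by
  intro N V hN v hv
  let M := (Scheme.Modules.pushforward W.ι).obj N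
  let c := asIso ((Scheme.Modules.restrictAdjunction W.ι).counit.app N)
  have hM : InvOn M (W.ι ''ᵁ V ⊓ U) := by
    rintro _ ⟨⟨z, hz, rfl⟩, hzU⟩
    obtain ⟨O, hzO, hO, g, hg⟩ := hN z ⟨hz, hzU⟩
    exact ⟨W.ι ''ᵁ O, ⟨z, hzO, rfl⟩, (W.ι.image_mono hO).trans (image_inf_preimage W U V).ge, _,
      Ref1Lib.genOn_of_restrict (genOn_iso c.symm hg)⟩
  obtain ⟨O, hxO, hOV, σ, hσ⟩ := h M (W.ι ''ᵁ V) hM (W.ι v) ⟨v, hv, rfl⟩
  have hle : W.ι ''ᵁ (W.ι ⁻¹ᵁ O ⊓ W.ι ⁻¹ᵁ U) ≤ O ⊓ U := by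
    rintro _ ⟨z, hz, rfl⟩; exact hz
  refine ⟨W.ι ⁻¹ᵁ O, hxO, fun z hz => ?_, _, genOn_iso c (hσ.restrict W.ι _ hle)⟩
  obtain ⟨z', hz', e⟩ := hOV hz
  exact W.ι.isOpenEmbedding.injective e ▸ hz'

theorem h0_of_cover {U : X.Opens} {ι : Type u} (W : ι → X.Opens) (hW : ∀ x : X, ∃ i, x ∈ W i)
    (h : ∀ i, H0 ((W i).ι ⁻¹ᵁ U)) : H0 U := fun V => by
  refine resBij_of_local (M := Coh.structureModule X) (fun x => ?_) V
  obtain ⟨i, hi⟩ := hW x
  refine ⟨W i, hi, fun T hT => ?_⟩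
  have e0 : (W i).ι ''ᵁ ((W i).ι ⁻¹ᵁ T) = T := by
    rw [Scheme.Hom.image_preimage_eq_opensRange_inf, Scheme.Opens.opensRange_ι, inf_eq_right.2 hT]
  have hb : Function.Bijective (X.presheaf.map (homOfLE (inf_le_left :
      (W i).ι ''ᵁ ((W i).ι ⁻¹ᵁ T) ⊓ U ≤ (W i).ι ''ᵁ ((W i).ι ⁻¹ᵁ T))).op) :=
    bijective_map_congr (image_inf_preimage (W i) U _).symm ((W i).ι.image_mono inf_le_left) inf_le_left
      (h i ((W i).ι ⁻¹ᵁ T))
  have : ∀ S : X.Opens, S = T → Function.Bijective (X.presheaf.map (homOfLE (inf_le_left : S ⊓ U ≤ S)).op) →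
      Function.Bijective (X.presheaf.map (homOfLE (inf_le_left : T ⊓ U ≤ T)).op) := fun S hS => hS ▸ id
  exact this _ e0 hb

theorem extends_of_cover {U : X.Opens} {ι : Type u} (W : ι → X.Opens) (hW : ∀ x : X, ∃ i, x ∈ W i)
    (h : ∀ i, Extends ((W i).ι ⁻¹ᵁ U)) : Extends U := by
  intro M V hM x hx
  obtain ⟨i, hi⟩ := hW x
  obtain ⟨O', hxO', hO', τ, hτ⟩ := h i (M.restrict (W i).ι) ((W i).ι ⁻¹ᵁ V) (by
    intro z hz
    obtain ⟨O, hzO, hO, g, hg⟩ := hM ((W i).ι z) hz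
    exact ⟨(W i).ι ⁻¹ᵁ O, hzO, fun _ hw => hO hw, _,
      hg.restrict (W i).ι ((W i).ι ⁻¹ᵁ O) ((W i).ι.image_preimage_le O)⟩) ⟨x, hi⟩ hx
  refine ⟨(W i).ι ''ᵁ O', ⟨⟨x, hi⟩, hxO', rfl⟩, ?_, _,
    (Ref1Lib.genOn_of_restrict hτ).res (image_inf_preimage (W i) U O').le⟩
  rintro _ ⟨z, hz, rfl⟩
  exact hO' hz

end ParaFLib

end
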