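import Groth.Agent.ParaFLib.Local
import Groth.Agent.CommAlgDim.PunctSections

/-!
# Extension of functions over the closed point and depth
-/

set_option autoImplicit false
set_option linter.style.haveILetI false
universe u

open CategoryTheory AlgebraicGeometry TopologicalSpace Opposite
open CommAlgDim CommAlgDim.PunctSections

noncomputable section

namespace ParaFLib

variable (A : Type u) [CommRing A] [IsLocalRing A] [IsNoetherianRing A]

theorem compl_maximalIdeal :
    compl (R := CommRingCat.of A) (IsLocalRing.maximalIdeal A) = FEt.puncturedSpec A := by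
  refine Opens.ext (congrArg Compl.compl (show PrimeSpectrum.zeroLocus (IsLocalRing.maximalIdeal A : Set A) = {IsLocalRing.closedPoint A} from Set.ext fun q => ?_))
  simp only [PrimeSpectrum.mem_zeroLocus, SetLike.coe_subset_coe, Set.mem_singleton_iff]
  exact ⟨fun h => PrimeSpectrum.ext (le_antisymm (IsLocalRing.le_maximalIdeal q.isPrime.ne_top) h),
    fun h => h ▸ le_rfl⟩

theorem h0_iff_depth : H0 (FEt.puncturedSpec A) ↔ (2 : ℕ∞) ≤ LocCoh.depth A A := by
  rw [h0_puncturedSpec_iff, ← compl_maximalIdeal]
  haveI : IsNoetherianRing (CommRingCat.of A) := inferInstanceAs (IsNoetherianRing A)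
  let M : ModuleCat.{u} (CommRingCat.of A) := ModuleCat.of (CommRingCat.of A) (CommRingCat.of A)
  let m : Ideal (CommRingCat.of A) := IsLocalRing.maximalIdeal A
  have hb : Function.Bijective (res M (le_top : compl m ≤ ⊤)) ↔ Function.Bijective (toSec M (compl m)) := by
    refine (Function.Bijective.of_comp_iff _ (bijective_toSec_top M)).symm.trans ?_
    exact Iff.rfl
  refine Iff.trans (show _ ↔ Function.Bijective (res M (le_top : compl m ≤ ⊤)) from Iff.rfl) (hb.trans ?_)
  constructor
  · intro h
    rw [show (2 : ℕ∞) = ((2 : ℕ) : ℕ∞) from rfl, le_depth_iff 2, hasSeqIn_iff_forall_localization]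
    intro p hp hle
    haveI := hp
    obtain rfl : p = IsLocalRing.maximalIdeal A := le_antisymm (IsLocalRing.le_maximalIdeal hp.ne_top) hle
    exact two_le_depth (M := M) m h
  · intro h
    rw [show (2 : ℕ∞) = ((2 : ℕ) : ℕ∞) from rfl, le_depth_iff 2, hasSeqIn_iff_forall_localization] at h
    exact bijective_toSec m fun p hp hle => h p hle

end ParaFLib

end
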