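import Groth.Prelude.Def_ParaF

/-! Formal properties of restriction of invertible modules. -/

set_option autoImplicit false
universe u

open CategoryTheory AlgebraicGeometry TopologicalSpace

namespace ParaFLib

theorem isInvertible_restrict {U V : Scheme.{u}} (j : U ⟶ V) [IsOpenImmersion j] {L : V.Modules}
    (h : PicF.IsInvertible L) : PicF.IsInvertible (L.restrict j) := fun y => by
  obtain ⟨W, hW, ⟨e⟩⟩ := h (j.base y)
  refine ⟨j ⁻¹ᵁ W, hW, ⟨?_⟩⟩
  let l : (↑(j ⁻¹ᵁ W) : Scheme.{u}) ⟶ (↑W : Scheme.{u}) := j.resLE W (j ⁻¹ᵁ W) le_rfl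
  have hl : (j ⁻¹ᵁ W).ι ≫ j = l ≫ W.ι := (j.resLE_comp_ι le_rfl).symm
  haveI : IsOpenImmersion l := by
    haveI : IsOpenImmersion (l ≫ W.ι) := hl ▸ inferInstance
    exact IsOpenImmersion.of_comp l W.ι
  exact ((Scheme.Modules.restrictFunctorComp (j ⁻¹ᵁ W).ι j).app L).symm ≪≫
    ((Scheme.Modules.restrictFunctorCongr hl).app L) ≪≫
    ((Scheme.Modules.restrictFunctorComp l W.ι).app L) ≪≫
    (Scheme.Modules.restrictFunctor l).mapIso e ≪≫ Scheme.Modules.restrictUnitIso l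

theorem exists_iso_of_restrict {U V : Scheme.{u}} {j : U ⟶ V} [IsOpenImmersion j] (h : ParaF.InvRestrictEquiv j)
    {L L' : V.Modules} (hL : PicF.IsInvertible L) (hL' : PicF.IsInvertible L') (e : L.restrict j ≅ L'.restrict j) :
    Nonempty (L ≅ L') := by
  obtain ⟨a, ha⟩ := (h.1 L L' hL hL').2 e.hom
  obtain ⟨b, hb⟩ := (h.1 L' L hL' hL).2 e.inv
  exact ⟨⟨a, b, (h.1 L L hL hL).1 (by simp only [Functor.map_comp] at ha hb ⊢; rw [ha, hb, CategoryTheory.Functor.map_id]; exact e.hom_inv_id),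
    (h.1 L' L' hL' hL').1 (by simp only [Functor.map_comp] at ha hb ⊢; rw [ha, hb, CategoryTheory.Functor.map_id]; exact e.inv_hom_id)⟩⟩

/-- Cancellation: if `U → W` and `U → W → V` are equivalences on invertible modules, so is `W → V`. -/
theorem invRestrictEquiv_of_comp {U W V : Scheme.{u}} (a : U ⟶ W) (b : W ⟶ V) (c : U ⟶ V) [IsOpenImmersion a]
    [IsOpenImmersion b] [IsOpenImmersion c] (hc : a ≫ b = c) (ha : ParaF.InvRestrictEquiv a)
    (hcc : ParaF.InvRestrictEquiv c) : ParaF.InvRestrictEquiv b := by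
  let η := Scheme.Modules.restrictFunctorCongr hc.symm ≪≫ Scheme.Modules.restrictFunctorComp a b
  refine ⟨fun L L' hL hL' => ⟨fun φ ψ h => (hcc.1 L L' hL hL').1 ?_, fun χ => ?_⟩, fun L₀ hL₀ => ?_⟩
  · refine (cancel_mono (η.hom.app L')).1 ?_
    simp only [NatTrans.naturality, Functor.comp_map]
    exact congrArg (fun t => η.hom.app L ≫ (Scheme.Modules.restrictFunctor a).map t) h
  · obtain ⟨φ, hφ⟩ := (hcc.1 L L' hL hL').2
      (η.hom.app L ≫ (Scheme.Modules.restrictFunctor a).map χ ≫ η.inv.app L')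
    refine ⟨φ, (ha.1 _ _ (isInvertible_restrict b hL) (isInvertible_restrict b hL')).1 ?_⟩
    have := η.hom.naturality φ
    simp only [Functor.comp_map] at hφ this
    rw [hφ] at this
    simp only [Category.assoc, Iso.inv_hom_id_app, Category.comp_id] at this
    exact ((cancel_epi _).1 this).symm
  · obtain ⟨L, hL, ⟨e⟩⟩ := hcc.2 (L₀.restrict a) (isInvertible_restrict a hL₀)
    obtain ⟨f⟩ := exists_iso_of_restrict ha (isInvertible_restrict b hL) hL₀ ((η.app L).symm ≪≫ e)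
    exact ⟨L, hL, ⟨f⟩⟩

theorem invRestrictEquiv_congr {X : Scheme.{u}} {A A' B : X.Opens} (hA : A = A') (h : A ≤ B) (h' : A' ≤ B)
    (he : ParaF.InvRestrictEquiv (X.homOfLE h)) : ParaF.InvRestrictEquiv (X.homOfLE h') := by
  subst hA; exact he

theorem isParafactorialPair_mono {X : Scheme.{u}} {Y Y' : Closeds ↥X} (hle : Y' ≤ Y)
    (h : ParaF.IsParafactorialPair X Y) : ParaF.IsParafactorialPair X Y' := fun V => by
  have hc : Y.compl ≤ Y'.compl := Set.compl_subset_compl.2 hle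
  have e : V ⊓ Y'.compl ⊓ Y.compl = V ⊓ Y.compl := by rw [inf_assoc, inf_eq_right.2 hc]
  have h2 : V ⊓ Y.compl ≤ V ⊓ Y'.compl := inf_le_inf_left V hc
  exact invRestrictEquiv_of_comp (X.homOfLE h2) _ _ (X.homOfLE_homOfLE _ _)
    (invRestrictEquiv_congr e _ h2 (h (V ⊓ Y'.compl))) (h V)

end ParaFLib
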