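import Groth.Agent.ParaFLib.StalkPic
import Groth.Agent.DepthOpenLib.Flat
import Groth.Agent.KFlatLib.AffinePull
import Mathlib

/-! Descent of parafactoriality along a flat local homomorphism with zero dimensional closed fibre. -/

set_option autoImplicit false
set_option maxHeartbeats 1000000

universe u

open CategoryTheory AlgebraicGeometry TopologicalSpace Opposite
open AmpleLib
open scoped TensorProduct

noncomputable section

namespace ParaFLib

/-- The map to the stalk, typed in the structure sheaf of the scheme. -/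
abbrev tS (A : Type u) [CommRing A] (q : Spec (CommRingCat.of A)) :
    A →+* (Spec (CommRingCat.of A)).presheaf.stalk q :=
  (StructureSheaf.toStalk A q).hom

theorem germ_chi' (A : Type u) [CommRing A] {U : (Spec (CommRingCat.of A)).Opens} {q : Spec (CommRingCat.of A)}
    (hq : q ∈ U) (a : A) : (Spec (CommRingCat.of A)).presheaf.germ U q hq (chi A U a) = tS A q a :=
  germ_chi A hq a

theorem stalk_isUnit_of_not_mem (A : Type u) [CommRing A] (q : Spec (CommRingCat.of A)) (a : A)
    (ha : a ∉ q.asIdeal) : IsUnit (tS A q a) := by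
  letI : Algebra A ((Spec (CommRingCat.of A)).presheaf.stalk q) := (StructureSheaf.toStalk A q).hom.toAlgebra
  haveI : IsLocalization.AtPrime ((Spec (CommRingCat.of A)).presheaf.stalk q) q.asIdeal :=
    StructureSheaf.IsLocalization.to_stalk A q
  exact (IsLocalization.AtPrime.isUnit_to_map_iff _ q.asIdeal a).2 ha

theorem app_chi (A B : Type u) [CommRing A] [CommRing B] (φ : A →+* B)
    (U : (Spec (CommRingCat.of A)).Opens) (a : A) :
    (Spec.map (CommRingCat.ofHom φ)).app U (chi A U a) =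
      chi B (Spec.map (CommRingCat.ofHom φ) ⁻¹ᵁ U) (φ a) := by
  let g := Spec.map (CommRingCat.ofHom φ)
  show g.app U ((Spec (CommRingCat.of A)).presheaf.map (homOfLE (le_top : U ≤ ⊤)).op
    ((Scheme.ΓSpecIso (CommRingCat.of A)).inv a)) = _
  rw [← CommRingCat.comp_apply, g.naturality, CommRingCat.comp_apply]
  have h2 : g.app ⊤ ((Scheme.ΓSpecIso (CommRingCat.of A)).inv a) =
      (Scheme.ΓSpecIso (CommRingCat.of B)).inv (φ a) := by
    have h := ConcreteCategory.congr_hom (Scheme.ΓSpecIso_inv_naturality (CommRingCat.ofHom φ)) a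
    exact h.symm
  rw [h2]
  rfl

/-- Two systems of coefficients satisfying the same relations as a unit system are proportional. -/
theorem exists_proportional (B : Type u) [CommRing B] {W : (Spec (CommRingCat.of B)).Opens}
    (hbij : Function.Bijective (chi B W)) {ι : Type u} (a : ι → B) (k : ι → ι → ℕ) (b : ι → ι → B)
    (hcov : ∀ q ∈ W, ∃ i, q ∈ (Spec (CommRingCat.of B)).basicOpen (chi B W (a i)))
    (c : ι → B) (hc : ∀ i, ∀ q ∈ (Spec (CommRingCat.of B)).basicOpen (chi B W (a i)), c i ∉ q.asIdeal)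
    (hrc : ∀ i j, a i ^ k i j * c j = b i j * c i)
    (d : ι → B) (hrd : ∀ i j, a i ^ k i j * d j = b i j * d i) :
    ∃ u : B, ∀ i, d i = u * c i := by
  let Y := Spec (CommRingCat.of B)
  let D : ι → Y.Opens := fun i => Y.basicOpen (chi B W (a i))
  have hD : ∀ i, D i ≤ W := fun i => Y.basicOpen_le _
  have hu : ∀ i, ∃ v : Γ(Y, D i), v * chi B (D i) (c i) = 1 := fun i => by
    refine (Y.toLocallyRingedSpace.toRingedSpace.isUnit_of_isUnit_germ (D i) _ fun q hq => ?_).exists_left_inv
    show IsUnit (Y.presheaf.germ (D i) q hq (chi B (D i) (c i)))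
    rw [germ_chi' B hq]
    exact stalk_isUnit_of_not_mem B q _ (hc i q hq)
  choose v hv using hu
  have hgv : ∀ i q (hq : q ∈ D i), Y.presheaf.germ (D i) q hq (v i) * tS B q (c i) = 1 := by
    intro i q hq
    have h := congrArg (Y.presheaf.germ (D i) q hq).hom (hv i)
    rw [map_mul, map_one] at h
    rw [← germ_chi' B hq]
    exact h
  have hprop : ∀ i j (q : Y) (_ : q ∈ D i), tS B q (c j) * tS B q (d i) =
      tS B q (d j) * tS B q (c i) := by
    intro i j q hq
    let t := tS B q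
    have he : IsUnit (t (a i ^ k i j)) :=
      stalk_isUnit_of_not_mem B q _ fun h => ((mem_basicOpen_chi B).1 hq).2 (q.isPrime.mem_of_pow_mem _ h)
    have h1 : t (a i ^ k i j) * t (c j) = t (b i j) * t (c i) := by rw [← map_mul, ← map_mul, hrc]
    have h2 : t (a i ^ k i j) * t (d j) = t (b i j) * t (d i) := by rw [← map_mul, ← map_mul, hrd]
    refine he.mul_left_cancel ?_
    show t (a i ^ k i j) * (t (c j) * t (d i)) = t (a i ^ k i j) * (t (d j) * t (c i))
    linear_combination t (d i) * h1 - t (c i) * h2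
  let sec : ∀ i, Γ(Y, D i) := fun i => v i * chi B (D i) (d i)
  have hgs : ∀ i q (hq : q ∈ D i), Y.presheaf.germ (D i) q hq (sec i) * tS B q (c i) =
      tS B q (d i) := fun i q hq => by
    rw [map_mul, germ_chi' B hq, mul_right_comm, hgv i q hq, one_mul]
  obtain ⟨u', hu', -⟩ := Y.sheaf.existsUnique_gluing' D W (fun i => homOfLE (hD i))
    (fun q hq => Opens.mem_iSup.mpr (hcov q hq)) sec (by
      intro i j
      refine TopCat.Presheaf.section_ext Y.sheaf _ _ _ fun q hq => ?_
      show Y.presheaf.germ _ q hq (Y.presheaf.map _ (sec i)) = Y.presheaf.germ _ q hq (Y.presheaf.map _ (sec j))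
      rw [TopCat.Presheaf.germ_res_apply, TopCat.Presheaf.germ_res_apply]
      have hi := hgv i q hq.1
      have hj := hgv j q hq.2
      have hp := hprop i j q hq.1
      have si := hgs i q hq.1
      have sj := hgs j q hq.2
      linear_combination (tS B q (d j) * Y.presheaf.germ (D j) q hq.2 (v j) - Y.presheaf.germ (D i) q hq.1 (sec i)) * hi + (Y.presheaf.germ (D j) q hq.2 (sec j) - tS B q (d i) * Y.presheaf.germ (D i) q hq.1 (v i)) * hj
        + (Y.presheaf.germ (D i) q hq.1 (v i) * Y.presheaf.germ (D j) q hq.2 (v j)) * hp + Y.presheaf.germ (D i) q hq.1 (v i) * si - Y.presheaf.germ (D j) q hq.2 (v j) * sj)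
  obtain ⟨u, rfl⟩ := hbij.2 u'
  refine ⟨u, fun i => hbij.1 (TopCat.Presheaf.section_ext Y.sheaf W _ _ fun q hq => ?_)⟩
  obtain ⟨j, hj⟩ := hcov q hq
  show Y.presheaf.germ W q hq (chi B W (d i)) = Y.presheaf.germ W q hq (chi B W (u * c i))
  rw [germ_chi' B hq, germ_chi' B hq, map_mul]
  have hgu : tS B q u = Y.presheaf.germ (D j) q hj (sec j) := by
    rw [← hu' j]
    exact (germ_chi' B hq u).symm.trans (TopCat.Presheaf.germ_res_apply Y.presheaf (homOfLE (hD j)) q hj _).symm
  rw [hgu]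
  have hp := hprop j i q hj
  have hv' := hgv j q hj
  have sj := hgs j q hj
  linear_combination (-(Y.presheaf.germ (D j) q hj (v j))) * hp
    - tS B q (d i) * hv'
    + (Y.presheaf.germ (D j) q hj (sec j) * tS B q (c i)) * hv'
    - (Y.presheaf.germ (D j) q hj (v j) * tS B q (c i)) * sj

/-- Coefficients over the flat extension yield coefficients over the base ring. -/
theorem exists_coef_descent (A B : Type u) [CommRing A] [CommRing B] [IsLocalRing B] [Algebra A B]
    [Module.Flat A B] {W : (Spec (CommRingCat.of B)).Opens} (hbij : Function.Bijective (chi B W))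
    {ι : Type u} [Fintype ι] (a : ι → A) (k : ι → ι → ℕ) (b : ι → ι → A)
    (hcov : ∀ q ∈ W, ∃ i, q ∈ (Spec (CommRingCat.of B)).basicOpen (chi B W (algebraMap A B (a i))))
    (c : ι → B)
    (hc : ∀ i, ∀ q ∈ (Spec (CommRingCat.of B)).basicOpen (chi B W (algebraMap A B (a i))), c i ∉ q.asIdeal)
    (hrc : ∀ i j, algebraMap A B (a i) ^ k i j * c j = algebraMap A B (b i j) * c i) :
    ∃ (s : ι → A) (u : B), IsUnit u ∧ (∀ i j, a i ^ k i j * s j = b i j * s i) ∧
      ∀ i, algebraMap A B (s i) = u * c i := by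
  classical
  let rel : ι × ι → (ι → A) := fun p => a p.1 ^ k p.1 p.2 • Pi.single p.2 (1 : A) - b p.1 p.2 • Pi.single p.1 (1 : A)
  let f : (ι × ι → A) →ₗ[A] (ι → A) := Fintype.linearCombination A rel
  let x : (ι → A) →ₗ[A] B := Fintype.linearCombination A c
  have hxs : ∀ i, x (Pi.single i 1) = c i := fun i => by
    simp [x, Fintype.linearCombination_apply, Pi.single_apply, ite_smul]
  have hfs : ∀ p, f (Pi.single p 1) = rel p := fun p => by
    simp [f, Fintype.linearCombination_apply, Pi.single_apply, ite_smul]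
  have hxf : x ∘ₗ f = 0 := by
    refine LinearMap.pi_ext' fun p => LinearMap.ext_ring ?_
    show x (f (Pi.single p 1)) = 0
    rw [hfs]
    simp only [rel, map_sub, map_smul, hxs]
    rw [Algebra.smul_def, Algebra.smul_def, map_pow, sub_eq_zero]
    exact hrc p.1 p.2
  obtain ⟨n, al, y, hxy, half⟩ := Module.Flat.exists_factorization_of_comp_eq_zero_of_free hxf
  let s : Fin n → ι → A := fun l i => al (Pi.single i 1) l
  have hs : ∀ l i j, a i ^ k i j * s l j = b i j * s l i := fun l i j => by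
    have h := DFunLike.congr_fun (LinearMap.congr_fun half (Pi.single (i, j) 1)) l
    simp only [LinearMap.comp_apply, hfs, rel, map_sub, map_smul, LinearMap.zero_apply, Finsupp.coe_sub,
      Pi.sub_apply, Finsupp.coe_smul, Pi.smul_apply, smul_eq_mul, Finsupp.coe_zero, Pi.zero_apply, sub_eq_zero] at h
    exact h
  have hpr : ∀ l, ∃ u : B, ∀ i, algebraMap A B (s l i) = u * c i := fun l =>
    exists_proportional B hbij (fun i => algebraMap A B (a i)) k (fun i j => algebraMap A B (b i j)) hcov c hc hrc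
      (fun i => algebraMap A B (s l i)) fun i j => by rw [← map_pow, ← map_mul, ← map_mul, hs]
  choose u hu using hpr
  let w : B := ∑ l, y (Finsupp.single l 1) * u l
  have hw : ∀ i, c i = w * c i := fun i => by
    calc c i = y (al (Pi.single i 1)) := (hxs i).symm.trans (LinearMap.congr_fun hxy _)
      _ = y (∑ l, s l i • Finsupp.single l 1) := by
        congr 1
        conv_lhs => rw [← Finsupp.univ_sum_single (al (Pi.single i 1))]
        simp [s]
      _ = ∑ l, algebraMap A B (s l i) * y (Finsupp.single l 1) := by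
        simp only [map_sum, map_smul, Algebra.smul_def]
      _ = w * c i := by
        rw [Finset.sum_mul]
        exact Finset.sum_congr rfl fun l _ => by rw [hu]; ring
  have h1 : w = 1 := by
    refine hbij.1 (TopCat.Presheaf.section_ext (Spec (CommRingCat.of B)).sheaf W _ _ fun q hq => ?_)
    obtain ⟨i, hi⟩ := hcov q hq
    show (Spec (CommRingCat.of B)).presheaf.germ W q hq (chi B W w) = (Spec (CommRingCat.of B)).presheaf.germ W q hq (chi B W 1)
    rw [germ_chi' B hq, germ_chi' B hq]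
    refine (stalk_isUnit_of_not_mem B q _ (hc i q hi)).mul_right_cancel ?_
    rw [← map_mul, ← map_mul, one_mul, ← hw i]
  obtain ⟨l, -, hl⟩ : ∃ l ∈ Finset.univ, IsUnit (y (Finsupp.single l 1) * u l) := by
    by_contra hne
    push Not at hne
    have h2 : w ∈ IsLocalRing.maximalIdeal B :=
      Submodule.sum_mem _ fun l hl => (IsLocalRing.mem_maximalIdeal _).2 (hne l hl)
    rw [h1] at h2
    exact (IsLocalRing.mem_maximalIdeal _).1 h2 isUnit_one
  exact ⟨s l, u l, isUnit_of_mul_isUnit_right hl, hs l, hu l⟩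

/-- Coefficients of a pulled back system of generators with respect to a generator upstairs. -/
theorem exists_pull_coef {A B : Type u} [CommRing A] [CommRing B] (φ : A →+* B)
    {U : (Spec (CommRingCat.of A)).Opens}
    (hbB : Function.Bijective (chi B (Spec.map (CommRingCat.ofHom φ) ⁻¹ᵁ U)))
    (G : (Spec (CommRingCat.of A)).Modules) {ι : Type u} (a : ι → A) (m : ι → Γ(G, U))
    (k : ι → ι → ℕ) (b : ι → ι → A)
    (hgen : ∀ i, GenOn G (res G ((Spec (CommRingCat.of A)).basicOpen_le (chi A U (a i))) (m i)))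
    (hkb : ∀ i j, chi A U (a i ^ k i j) • m j = chi A U (b i j) • m i)
    {σ : Γ(KFlatLib.pb (Spec.map (CommRingCat.ofHom φ)) G, Spec.map (CommRingCat.ofHom φ) ⁻¹ᵁ U)}
    (hσ : GenOn (KFlatLib.pb (Spec.map (CommRingCat.ofHom φ)) G) σ) :
    ∃ c : ι → B, (∀ i, ∀ q ∈ (Spec (CommRingCat.of B)).basicOpen
        (chi B (Spec.map (CommRingCat.ofHom φ) ⁻¹ᵁ U) (φ (a i))), c i ∉ q.asIdeal) ∧
      ∀ i j, φ (a i) ^ k i j * c j = φ (b i j) * c i := by
  let Y := Spec (CommRingCat.of A)
  let Y' := Spec (CommRingCat.of B)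
  let g : Y' ⟶ Y := Spec.map (CommRingCat.ofHom φ)
  let W : Y'.Opens := g ⁻¹ᵁ U
  let G' := KFlatLib.pb g G
  let m' : ι → Γ(G', W) := fun i => KFlatLib.puSec g (m i)
  have hgen' : ∀ i (q : Y') (hq : q ∈ W), q ∈ Y'.basicOpen (chi B W (φ (a i))) → GenAt G' (m' i) hq := by
    intro i q hq hqi
    have h1 : g q ∈ Y.basicOpen (chi A U (a i)) :=
      (mem_basicOpen_chi A).2 ⟨hq, ((mem_basicOpen_chi B).1 hqi).2⟩
    exact TwistLib.GenAt.puSec g (hx := hq) ((genAt_res (Y.basicOpen_le _) (m i) h1).1 ((hgen i).genAt h1))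
  have hcoef : ∀ i, ∃ c : B, chi B W c • σ = m' i := fun i => by
    obtain ⟨r, hr⟩ := (hσ W le_rfl).2 (m' i)
    obtain ⟨c, rfl⟩ := hbB.2 r
    exact ⟨c, by simpa only [res_refl] using hr⟩
  choose c hcσ using hcoef
  refine ⟨c, fun i q hq => ?_, fun i j => ?_⟩
  · have h := hgen' i q (Y'.basicOpen_le _ hq) hq
    rw [← hcσ, genAt_smul_iff _ _ _ (hσ.genAt _), mem_basicOpen_chi B] at h
    exact h.2
  · have h : chi B W (φ (a i ^ k i j)) • m' j = chi B W (φ (b i j)) • m' i := by
      rw [← app_chi A B φ U, ← app_chi A B φ U, ← KFlatLib.puSec_smul, ← KFlatLib.puSec_smul, hkb i j]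
    rw [← hcσ, ← hcσ, smul_smul, smul_smul, ← map_mul, ← map_mul, map_pow] at h
    refine hbB.1 ((hσ W le_rfl).1 ?_)
    simpa only [res_refl] using h

theorem invOn_pb {X Y : Scheme.{u}} (g : Y ⟶ X) {U : X.Opens} {G : X.Modules} (hG : InvOn G U) :
    InvOn (KFlatLib.pb g G) (g ⁻¹ᵁ U) := fun q hq => by
  obtain ⟨O, hqO, hOU, s, hs⟩ := hG (g q) hq
  exact ⟨g ⁻¹ᵁ O, hqO, g.preimage_mono hOU, KFlatLib.puSec g s,
    TwistLib.genOn_of_genAt fun z hz => TwistLib.GenAt.puSec g (hx := hz) (hs.genAt hz)⟩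

/-- A trivial restricted pullback gives a generator upstairs. -/
theorem genOn_pb_of_trivial {X Y : Scheme.{u}} (g : Y ⟶ X) (U : X.Opens) {L : (U : Scheme.{u}).Modules}
    (h : Nonempty ((Scheme.Modules.pullback (g ∣_ U)).obj L ≅ Coh.structureModule _)) :
    ∃ σ : Γ(KFlatLib.pb g ((Scheme.Modules.pushforward U.ι).obj L), g ⁻¹ᵁ U),
      GenOn (KFlatLib.pb g ((Scheme.Modules.pushforward U.ι).obj L)) σ := by
  obtain ⟨e⟩ := h
  let G := (Scheme.Modules.pushforward U.ι).obj L
  let W := g ⁻¹ᵁ U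
  exact exists_genOn_of_iso ((Scheme.Modules.restrictFunctorIsoPullback W.ι).app _ ≪≫
    (Scheme.Modules.pullbackComp W.ι g).app G ≪≫
    (Scheme.Modules.pullbackCongr (morphismRestrict_ι g U).symm).app G ≪≫
    ((Scheme.Modules.pullbackComp (g ∣_ U) U.ι).app G).symm ≪≫
    (Scheme.Modules.pullback (g ∣_ U)).mapIso
      (((Scheme.Modules.restrictFunctorIsoPullback U.ι).app G).symm ≪≫
        asIso ((Scheme.Modules.restrictAdjunction U.ι).counit.app L)) ≪≫ e)

variable (A B : Type u) [CommRing A] [CommRing B] [IsNoetherianRing A] [IsLocalRing A] [IsNoetherianRing B]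
  [IsLocalRing B] [Algebra A B] [IsLocalHom (algebraMap A B)] [Module.Flat A B]

theorem preimage_puncturedSpec
    (hfib : ∀ Q : Ideal B, Q.IsPrime → (IsLocalRing.maximalIdeal A).map (algebraMap A B) ≤ Q →
      Q = IsLocalRing.maximalIdeal B) :
    Spec.map (CommRingCat.ofHom (algebraMap A B)) ⁻¹ᵁ FEt.puncturedSpec A = FEt.puncturedSpec B := by
  refine Opens.ext (Set.ext fun Q => not_congr ?_)
  show Spec.map (CommRingCat.ofHom (algebraMap A B)) Q = IsLocalRing.closedPoint A ↔ Q = IsLocalRing.closedPoint B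
  constructor
  · intro h
    refine PrimeSpectrum.ext (hfib Q.asIdeal Q.isPrime (Ideal.map_le_iff_le_comap.2 ?_))
    exact (congrArg PrimeSpectrum.asIdeal h).ge
  · rintro rfl
    exact PrimeSpectrum.ext (IsLocalRing.maximalIdeal_comap (algebraMap A B))

theorem exists_genOn_descent
    (hfib : ∀ Q : Ideal B, Q.IsPrime → (IsLocalRing.maximalIdeal A).map (algebraMap A B) ≤ Q →
      Q = IsLocalRing.maximalIdeal B)
    (hd : (2 : ℕ∞) ≤ LocCoh.depth A A) (G : (Spec (CommRingCat.of A)).Modules) [Coh.IsQCoh G]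
    (hG : InvOn G (FEt.puncturedSpec A))
    (hσ : ∃ σ : Γ(KFlatLib.pb (Spec.map (CommRingCat.ofHom (algebraMap A B))) G,
      Spec.map (CommRingCat.ofHom (algebraMap A B)) ⁻¹ᵁ FEt.puncturedSpec A), GenOn _ σ) :
    ∃ σ : Γ(G, FEt.puncturedSpec A), GenOn G σ := by
  classical
  haveI : Module.FaithfullyFlat A B := Module.FaithfullyFlat.of_flat_of_isLocalHom
  let Y := Spec (CommRingCat.of A)
  let Y' := Spec (CommRingCat.of B)
  let g : Y' ⟶ Y := Spec.map (CommRingCat.ofHom (algebraMap A B))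
  let U : Y.Opens := FEt.puncturedSpec A
  have hW := preimage_puncturedSpec A B hfib
  have hdB : (2 : ℕ∞) ≤ LocCoh.depth B B := by
    rw [← DepthOpenLib.depth_tensor_eq (A := A) (B := B) A hfib] at hd
    exact hd.trans (CommAlgDim.depth_congr (TensorProduct.AlgebraTensorModule.rid A B B)).le
  have hbB : Function.Bijective (chi B (g ⁻¹ᵁ U)) := by
    rw [hW]
    exact ((h0_puncturedSpec_iff B).1 ((h0_iff_depth B).2 hdB)).comp
      (ConcreteCategory.bijective_of_isIso (Scheme.ΓSpecIso (CommRingCat.of B)).inv)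
  have hsA : Function.Surjective (chi A U) := ((h0_puncturedSpec_iff A).1 ((h0_iff_depth A).2 hd)).2.comp
    (ConcreteCategory.bijective_of_isIso (Scheme.ΓSpecIso (CommRingCat.of A)).inv).2
  haveI : IsNoetherianRing (CommRingCat.of A) := inferInstanceAs (IsNoetherianRing A)
  haveI : IsLocallyNoetherian Y := inferInstance
  haveI : NoetherianSpace Y := inferInstanceAs (NoetherianSpace (PrimeSpectrum A))
  have hc : IsCompact (U : Set Y) := NoetherianSpace.isCompact _
  have hqs : IsQuasiSeparated (U : Set Y) := fun _ _ _ _ _ _ _ _ => NoetherianSpace.isCompact _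
  obtain ⟨ι, hι, a, m, hcov, hgen, hrel⟩ := exists_gens A hc hqs hsA G hG
  choose k b hkb using hrel
  obtain ⟨σ, hσ⟩ := hσ
  obtain ⟨c, hcu, hcr⟩ := exists_pull_coef (algebraMap A B) hbB G a m k b hgen hkb hσ
  have hcov' : ∀ q ∈ g ⁻¹ᵁ U, ∃ i, q ∈ Y'.basicOpen (chi B (g ⁻¹ᵁ U) (algebraMap A B (a i))) := fun q hq => by
    obtain ⟨i, hi⟩ := hcov (g q) hq
    exact ⟨i, (mem_basicOpen_chi B).2 ⟨hq, ((mem_basicOpen_chi A).1 hi).2⟩⟩
  obtain ⟨s, u, hu, hsr, hsu⟩ := exists_coef_descent A B hbB a k b hcov' c hcu hcr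
  refine exists_genOn_of_coef A G a m s hcov hgen (fun i q hq hsq => ?_) fun i j =>
    ⟨a i ^ k i j, b i j, fun q hq h => ((mem_basicOpen_chi A).1 hq).2 (q.isPrime.mem_of_pow_mem _ h),
      hkb i j, hsr i j⟩
  obtain ⟨Q, hQ⟩ := PrimeSpectrum.comap_surjective_of_faithfullyFlat (A := A) (B := B) q
  obtain rfl : q = g Q := hQ.symm
  have hq' := (mem_basicOpen_chi A).1 hq
  refine hcu i Q ((mem_basicOpen_chi B).2 ⟨hq'.1, hq'.2⟩) ((Ideal.unit_mul_mem_iff_mem _ hu).1 ?_)
  rw [← hsu]
  exact hsq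

theorem isParafactorialLocalRing_descent
    (hfib : ∀ Q : Ideal B, Q.IsPrime → (IsLocalRing.maximalIdeal A).map (algebraMap A B) ≤ Q →
      Q = IsLocalRing.maximalIdeal B)
    (hB : ParaF.IsParafactorialLocalRing B) : ParaF.IsParafactorialLocalRing A := by
  rw [isParafactorialLocalRing_iff] at hB ⊢
  obtain ⟨hB0, hB1⟩ := hB
  have hd : (2 : ℕ∞) ≤ LocCoh.depth A A := by
    rw [← DepthOpenLib.depth_tensor_eq (A := A) (B := B) A hfib]
    exact ((h0_iff_depth B).1 ((h0_puncturedSpec_iff B).2 hB0)).trans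
      (CommAlgDim.depth_congr (TensorProduct.AlgebraTensorModule.rid A B B)).ge
  refine ⟨(h0_puncturedSpec_iff A).1 ((h0_iff_depth A).2 hd), fun L hL => ?_⟩
  haveI : IsNoetherianRing (CommRingCat.of A) := inferInstanceAs (IsNoetherianRing A)
  haveI : IsLocallyNoetherian (Spec (CommRingCat.of A)) := inferInstance
  haveI : NoetherianSpace (Spec (CommRingCat.of A)) := inferInstanceAs (NoetherianSpace (PrimeSpectrum A))
  haveI : Coh.IsQCoh L := TwistLib.isQCoh_of_isInvertible hL
  haveI : QuasiCompact (FEt.puncturedSpec A).ι := inferInstance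
  haveI : Coh.IsQCoh ((Scheme.Modules.pushforward (FEt.puncturedSpec A).ι).obj L) :=
    QCohLib.isQCoh_pushforward _ L
  have hG := invOn_push (FEt.puncturedSpec A) hL
  have hext : ∀ M : (Spec (CommRingCat.of B)).Modules,
      InvOn M (Spec.map (CommRingCat.ofHom (algebraMap A B)) ⁻¹ᵁ FEt.puncturedSpec A) →
      ∃ σ : Γ(M, Spec.map (CommRingCat.ofHom (algebraMap A B)) ⁻¹ᵁ FEt.puncturedSpec A), GenOn M σ := by
    rw [preimage_puncturedSpec A B hfib]; exact (picTrivial_iff _).1 hB1
  obtain ⟨σ, hσ⟩ := exists_genOn_descent A B hfib hd _ hG (hext _ (invOn_pb _ hG))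
  obtain ⟨j⟩ := TwistLib.nonempty_iso_of_genOn σ hσ
  exact ⟨(asIso ((Scheme.Modules.restrictAdjunction (FEt.puncturedSpec A).ι).counit.app L)).symm ≪≫ j⟩

/-- An invertible module on the punctured spectrum which becomes trivial upstairs is trivial. -/
theorem picPullbackInjective_descent
    (hfib : ∀ Q : Ideal B, Q.IsPrime → (IsLocalRing.maximalIdeal A).map (algebraMap A B) ≤ Q →
      Q = IsLocalRing.maximalIdeal B)
    (hd : (2 : ℕ∞) ≤ LocCoh.depth A A) (L : (FEt.puncturedSpec A : Scheme.{u}).Modules) (hL : PicF.IsInvertible L)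
    (h : Nonempty ((Scheme.Modules.pullback
      (Spec.map (CommRingCat.ofHom (algebraMap A B)) ∣_ FEt.puncturedSpec A)).obj L ≅ Coh.structureModule _)) :
    Nonempty (L ≅ Coh.structureModule _) := by
  haveI : IsNoetherianRing (CommRingCat.of A) := inferInstanceAs (IsNoetherianRing A)
  haveI : IsLocallyNoetherian (Spec (CommRingCat.of A)) := inferInstance
  haveI : NoetherianSpace (Spec (CommRingCat.of A)) := inferInstanceAs (NoetherianSpace (PrimeSpectrum A))
  haveI : Coh.IsQCoh L := TwistLib.isQCoh_of_isInvertible hL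
  haveI : QuasiCompact (FEt.puncturedSpec A).ι := inferInstance
  haveI : Coh.IsQCoh ((Scheme.Modules.pushforward (FEt.puncturedSpec A).ι).obj L) :=
    QCohLib.isQCoh_pushforward _ L
  obtain ⟨σ, hσ⟩ := exists_genOn_descent A B hfib hd _ (invOn_push (FEt.puncturedSpec A) hL)
    (genOn_pb_of_trivial _ _ h)
  obtain ⟨j⟩ := TwistLib.nonempty_iso_of_genOn σ hσ
  exact ⟨(asIso ((Scheme.Modules.restrictAdjunction (FEt.puncturedSpec A).ι).counit.app L)).symm ≪≫ j⟩

end ParaFLib

end
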