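import Groth.Agent.ParaFLib.StalkPic
import Groth.Agent.UFDExtLib.Main
import Groth.Agent.FlatLib.QStalk

/-!
# Parafactorial pairs from parafactorial local rings
-/

set_option autoImplicit false
set_option linter.style.haveILetI false
universe u

open CategoryTheory AlgebraicGeometry TopologicalSpace Opposite
open AmpleLib (res GenOn GenAt)

noncomputable section

namespace ParaFLib

variable {X : Scheme.{u}} [IsLocallyNoetherian X]

theorem h0_of_depth (Y : Closeds ↥X)
    (h : ∀ y ∈ Y, (2 : ℕ∞) ≤ LocCoh.depth (X.presheaf.stalk y) (X.presheaf.stalk y)) : H0 Y.compl := by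
  let F := Coh.structureModule X
  have hZ : StableUnderSpecialization (Y : Set X) := Y.isClosed.stableUnderSpecialization
  have hat : ∀ x, ZClos.IsZClosedAt (Y : Set X) F x := fun x =>
    (ZClosLib.isZClosedAt_iff hZ isCoh_structure x).2 fun x' _ hx' => by
      have hb := (AmpleLib.one_genOn (X := X) ⊤).genAt (x := x') trivial
      let e : X.presheaf.stalk x' ≃ₗ[X.presheaf.stalk x'] F.presheaf.stalk x' :=
        LinearEquiv.ofBijective (LinearMap.toSpanSingleton _ _
          ((Coh.structureModule X).presheaf.germ ⊤ x' trivial (1 : Γ(X, ⊤)))) hb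
      exact (CommAlgDim.depth_congr e) ▸ h x' hx'
  have hiso : IsIso (ZClos.rhoApp (Y : Set X) F) := (RefHullLib.isIso_iff_stalk _).2 hat
  have hc := (ZClosLib.isZClosed_iff_bijective_res hZ).1 hiso ⟨Y, le_rfl⟩
  intro V
  refine resBij_of_local (M := F) (fun x => ?_) V
  obtain ⟨O, hO, hxO, -⟩ := exists_isAffineOpen_mem_and_subset (x := x) (U := (⊤ : X.Opens)) trivial
  haveI : IsNoetherianRing Γ(X, O) := IsLocallyNoetherian.component_noetherian ⟨O, hO⟩
  haveI : NoetherianSpace (O : Set X) := AlgebraicGeometry.noetherianSpace_of_isAffineOpen O hO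
  refine ⟨O, hxO, fun W hW => hc W ?_⟩
  have := (NoetherianSpace.isCompact (Subtype.val ⁻¹' (W : Set X) : Set (O : Set X))).image continuous_subtype_val
  rwa [Subtype.image_preimage_coe, Set.inter_eq_right.2 (show (W : Set X) ⊆ O from hW)] at this

theorem genAt_stalk_data {M₀ : X.Modules} [Coh.IsQCoh M₀] {W : X.Opens} (hW : IsAffineOpen W) {y : X}
    (hy : y ∈ W) (g : Γ(X, W)) (m : Γ(M₀, W)) (hgen : GenOn M₀ (res M₀ (X.basicOpen_le g) m)) :
    TwistLib.LocBij (Submonoid.powers (X.presheaf.germ W y hy g))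
      (LinearMap.toSpanSingleton (X.presheaf.stalk y) (M₀.presheaf.stalk y) (M₀.presheaf.germ W y hy m)) := by
  letI : Algebra Γ(X, W) (X.presheaf.stalk y) := (X.presheaf.germ W y hy).hom.toAlgebra
  haveI : IsLocalization.AtPrime (X.presheaf.stalk y) (hW.primeIdealOf ⟨y, hy⟩).asIdeal :=
    hW.isLocalization_stalk ⟨y, hy⟩
  letI := Module.compHom (M₀.presheaf.stalk y) (X.presheaf.germ W y hy).hom
  haveI := FlatLib.isLocalizedModule_germLin M₀ hW hy
  let φ := (X.presheaf.germ W y hy).hom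
  let D := X.basicOpen g
  have hD : D ≤ W := X.basicOpen_le g
  have hmap : ∀ r : Γ(X, W), X.presheaf.map (homOfLE (le_refl W)).op r = r := fun r => congr($(X.presheaf.map_id _) r)
  refine ⟨fun a ha => ?_, fun n => ?_⟩
  · obtain ⟨⟨r, s⟩, hrs⟩ := IsLocalization.surj (hW.primeIdealOf ⟨y, hy⟩).asIdeal.primeCompl a
    replace hrs : a * φ s.1 = φ r := hrs
    replace ha : a • M₀.presheaf.germ W y hy m = 0 := ha
    have h1 : FlatLib.germLin M₀ hy (r • m) = 0 := by
      refine (FlatLib.germ_smul_mod M₀ hy r m).trans ?_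
      show φ r • _ = 0
      rw [← hrs, mul_comm, mul_smul, ha, smul_zero]
    obtain ⟨u, hu⟩ := (IsLocalizedModule.eq_zero_iff (hW.primeIdealOf ⟨y, hy⟩).asIdeal.primeCompl _).1 h1
    have h2 : X.presheaf.map (homOfLE hD).op (u.1 * r) = 0 := by
      refine (hgen D le_rfl).1 ?_
      dsimp only
      rw [zero_smul, AmpleLib.res_refl, ← AmpleLib.res_smul, mul_smul]
      exact (congrArg (res M₀ hD) hu).trans (map_zero _)
    haveI : Coh.IsQCoh (Coh.structureModule X) := (DevissLib.isCoh_structureModule X).1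
    obtain ⟨k, hk⟩ := (QCohLib.localizingAt_of_isQCoh hW (Coh.structureModule X) g).eq_zero (u.1 * r) h2
    rw [hmap] at hk
    replace hk : g ^ k * (u.1 * r) = 0 := hk
    refine ⟨_, ⟨k, rfl⟩, ?_⟩
    show φ g ^ k * a = 0
    refine ((IsLocalization.map_units (X.presheaf.stalk y) u).mul
      (IsLocalization.map_units (X.presheaf.stalk y) s)).mul_left_eq_zero.1 ?_
    show φ g ^ k * a * (φ u.1 * φ s.1) = 0
    rw [show φ g ^ k * a * (φ u.1 * φ s.1) = φ g ^ k * (φ u.1 * (a * φ s.1)) by ring, hrs, ← map_mul,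
      ← map_pow, ← map_mul, hk, map_zero]
  · obtain ⟨⟨n₀, s⟩, hns⟩ := IsLocalizedModule.surj (hW.primeIdealOf ⟨y, hy⟩).asIdeal.primeCompl
      (FlatLib.germLin M₀ hy) n
    replace hns : φ s.1 • n = M₀.presheaf.germ W y hy n₀ := hns
    obtain ⟨c, hc⟩ := (hgen D le_rfl).2 (res M₀ hD n₀)
    dsimp only at hc
    rw [AmpleLib.res_refl] at hc
    haveI : Coh.IsQCoh (Coh.structureModule X) := (DevissLib.isCoh_structureModule X).1
    obtain ⟨k, b', hb⟩ := (QCohLib.localizingAt_of_isQCoh hW (Coh.structureModule X) g).exists_extend c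
    have h0 : res M₀ hD (g ^ k • n₀ - (show Γ(X, W) from b') • m) = 0 := by
      refine (map_sub (M₀.presheaf.map (homOfLE hD).op).hom _ _).trans (sub_eq_zero.2 ?_)
      show res M₀ hD _ = res M₀ hD _
      rw [AmpleLib.res_smul, AmpleLib.res_smul, map_pow,
        show X.presheaf.map (homOfLE hD).op (show Γ(X, W) from b') = _ from hb, ← hc, smul_smul]
      rfl
    obtain ⟨l, hl⟩ := (QCohLib.localizingAt_of_isQCoh hW M₀ g).eq_zero _ h0
    rw [hmap, smul_sub, sub_eq_zero, smul_smul, smul_smul, ← pow_add] at hl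
    have hl' := congrArg (M₀.presheaf.germ W y hy) hl
    rw [AmpleLib.germ_smul, AmpleLib.germ_smul, ← hns] at hl'
    obtain ⟨t, ht⟩ := IsLocalization.map_units (X.presheaf.stalk y) s
    replace ht : (t : X.presheaf.stalk y) = φ s.1 := ht
    refine ⟨φ g ^ (l + k), ⟨l + k, rfl⟩, (↑t⁻¹ : X.presheaf.stalk y) * φ (g ^ l * (show Γ(X, W) from b')), ?_⟩
    show (↑t⁻¹ * φ (g ^ l * _)) • M₀.presheaf.germ W y hy m = φ g ^ (l + k) • n
    rw [mul_smul]
    refine (congrArg ((↑t⁻¹ : X.presheaf.stalk y) • ·) hl'.symm).trans ?_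
    show (↑t⁻¹ : X.presheaf.stalk y) • φ (g ^ (l + k)) • φ s.1 • n = _
    rw [map_pow, smul_smul, smul_smul, ← ht]
    congr 1
    rw [mul_right_comm, mul_comm _ (φ g ^ (l + k)), Units.inv_mul, mul_one]

theorem extends_of_stalks (Y : Closeds ↥X) (h0 : H0 Y.compl)
    (hpar : ∀ y ∈ Y, ParaF.IsParafactorialLocalRing (X.presheaf.stalk y)) : Extends Y.compl := by
  classical
  intro M V hM x hx
  let A₀ : X.Opens := V ⊓ Y.compl
  let L := M.restrict A₀.ι
  have hL : PicF.IsInvertible L := isInvertible_restrict_of_invOn hM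
  haveI : Coh.IsQCoh L := TwistLib.isQCoh_of_isInvertible hL
  haveI : QuasiCompact A₀.ι := inferInstance
  let M₀ := (Scheme.Modules.pushforward A₀.ι).obj L
  haveI : Coh.IsQCoh M₀ := QCohLib.isQCoh_pushforward A₀.ι L
  let E : Set X := {z | ∃ O : X.Opens, z ∈ O ∧ O ≤ V ∧ ∃ σ : Γ(M₀, O), GenOn M₀ σ}
  suffices hE : ∀ z ∈ V, z ∈ E by
    obtain ⟨O, hxO, hOV, σ, hσ⟩ := hE x hx
    have hle : A₀.ι ''ᵁ (A₀.ι ⁻¹ᵁ O) ≤ O := A₀.ι.image_preimage_le O
    have h1 := Ref1Lib.genOn_of_restrict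
      (genOn_iso (asIso ((Scheme.Modules.restrictAdjunction A₀.ι).counit.app L)) (hσ.restrict A₀.ι _ hle))
    refine ⟨O, hxO, hOV, _, h1.res ?_⟩
    rintro z ⟨hzO, hzY⟩
    exact ⟨⟨z, hOV hzO, hzY⟩, hzO, rfl⟩
  have hEo : IsOpen E := isOpen_iff_forall_mem_open.2 fun z ⟨O, hzO, hOV, hσ⟩ =>
    ⟨O, fun w hw => ⟨O, hw, hOV, hσ⟩, O.2, hzO⟩
  have hEA : ∀ z ∈ A₀, z ∈ E := fun z hz => by
    obtain ⟨O, hzO, hO, g, hg⟩ := hM z hz
    exact ⟨O, hzO, hO.trans inf_le_left, _,
      genOn_push_le A₀.ι (hO.trans_eq (Scheme.Opens.opensRange_ι _).symm)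
        (hg.restrict A₀.ι (A₀.ι ⁻¹ᵁ O) (A₀.ι.image_preimage_le O))⟩
  intro z₀ hz₀
  by_contra hz₀E
  let C : Set X := closure ((V : Set X) \ E)
  have hCV : ∀ z ∈ V, z ∈ C → z ∉ E := fun z hzV hzC hzE => by
    obtain ⟨w, ⟨-, hwE⟩, hw⟩ := mem_closure_iff.1 hzC ((V : Set X) ∩ E) (V.2.inter hEo) ⟨hzV, hzE⟩ |>
      fun ⟨w, hw1, hw2⟩ => (⟨w, hw1, hw2⟩ : ∃ w, w ∈ (V : Set X) ∩ E ∧ w ∈ (V : Set X) \ E)
    exact hw.2 hwE
  obtain ⟨y, hyC, hygen, hyV⟩ : ∃ y ∈ C, (∀ w, w ⤳ y → w ≠ y → w ∉ C) ∧ y ∈ V := by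
    let C' : Set (V : Scheme.{u}) := V.ι.base ⁻¹' C
    obtain ⟨v, hv, hgen⟩ := UFDExtLib.exists_maximal_point (isClosed_closure.preimage V.ι.continuous : IsClosed C')
      (x₀ := (⟨z₀, hz₀⟩ : V)) (subset_closure ⟨hz₀, hz₀E⟩ : z₀ ∈ C)
    refine ⟨V.ι v, hv, fun w hw hne hwC => ?_, v.2⟩
    have hwV : w ∈ V := hw.mem_open V.2 v.2
    exact hgen ⟨w, hwV⟩ ((V.ι.isOpenEmbedding.isInducing.specializes_iff).1 hw)
      (fun e => hne (congrArg (fun t : (V : Scheme.{u}) => V.ι t) e)) hwC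
  have hyE : y ∉ E := hCV y hyV hyC
  have hyY : y ∈ Y := by
    by_contra hyY
    exact hyE (hEA y ⟨hyV, hyY⟩)
  refine hyE ?_
  obtain ⟨W, hW, hyW, hWV⟩ := exists_isAffineOpen_mem_and_subset (x := y) (U := V) hyV
  haveI : IsNoetherianRing Γ(X, W) := IsLocallyNoetherian.component_noetherian ⟨W, hW⟩
  let X' := Spec (CommRingCat.of (X.presheaf.stalk y))
  let U : X'.Opens := FEt.puncturedSpec (X.presheaf.stalk y)
  let φ := (X.presheaf.germ W y hyW).hom
  let p := hW.primeIdealOf ⟨y, hyW⟩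
  letI : Algebra Γ(X, W) (X.presheaf.stalk y) := φ.toAlgebra
  haveI : IsLocalization.AtPrime (X.presheaf.stalk y) p.asIdeal := hW.isLocalization_stalk ⟨y, hyW⟩
  let pt : X' → PrimeSpectrum Γ(X, W) := PrimeSpectrum.comap φ
  have hpt : ∀ q : X', hW.fromSpec (pt q) = X.fromSpecStalk y q := fun q =>
    congrArg (fun f : X' ⟶ X => f q) (hW.fromSpecStalk_eq_fromSpecStalk hyW)
  obtain ⟨hH0', hpic⟩ := (isParafactorialLocalRing_iff _).1 (hpar y hyY)
  have hbij : Function.Bijective (chi (X.presheaf.stalk y) U) := hH0'.comp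
    (ConcreteCategory.bijective_of_isIso (Scheme.ΓSpecIso (CommRingCat.of (X.presheaf.stalk y))).inv)
  -- data at the punctured spectrum
  have hdata : ∀ q : U, ∃ (g : Γ(X, W)) (m : Γ(M₀, W)), φ g ∉ q.1.asIdeal ∧
      GenOn M₀ (res M₀ (X.basicOpen_le g) m) := by
    rintro ⟨q, hq⟩
    have hqy : X.fromSpecStalk y q ⤳ y := by
      show X.fromSpecStalk y q ∈ {w | w ⤳ y}
      exact X.range_fromSpecStalk (x := y) ▸ ⟨q, rfl⟩
    have hne : X.fromSpecStalk y q ≠ y := fun e => hq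
      ((X.fromSpecStalk y).isEmbedding.injective (e.trans Scheme.fromSpecStalk_closedPoint.symm))
    obtain ⟨O, hzO, -, σ, hσ⟩ : X.fromSpecStalk y q ∈ E := by
      by_contra hn
      exact hygen _ hqy hne (subset_closure ⟨hqy.mem_open V.2 hyV, hn⟩)
    have hzW : X.fromSpecStalk y q ∈ W := hqy.mem_open W.2 hyW
    obtain ⟨g, hgO, hzg⟩ := QCohLib.exists_basicOpen_nhd hW hzO hzW
    have hσ' := hσ.res hgO
    obtain ⟨k, m, hm⟩ := (QCohLib.localizingAt_of_isQCoh hW M₀ g).exists_extend (res M₀ hgO σ)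
    have hgq : φ g ∉ q.asIdeal := by
      rw [← hpt] at hzg
      have h1 : pt q ∈ hW.fromSpec ⁻¹ᵁ X.basicOpen g := hzg
      rw [hW.fromSpec_preimage_basicOpen] at h1
      exact h1
    refine ⟨g, m, hgq, TwistLib.genOn_of_genAt fun w hw => ?_⟩
    rw [show res M₀ (X.basicOpen_le g) m = _ from hm,
      AmpleLib.genAt_smul_iff _ _ hw (hσ'.genAt hw), Scheme.mem_basicOpen _ _ _ hw, map_pow,
      TopCat.Presheaf.germ_res_apply]
    exact ((Scheme.mem_basicOpen _ _ _ (X.basicOpen_le g hw)).1 hw).pow k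
  choose g m hgq hgen using hdata
  haveI : IsNoetherianRing (CommRingCat.of (X.presheaf.stalk y)) := inferInstanceAs (IsNoetherianRing (X.presheaf.stalk y))
  haveI : NoetherianSpace X' := inferInstanceAs (NoetherianSpace (PrimeSpectrum (X.presheaf.stalk y)))
  obtain ⟨t, ht⟩ := (NoetherianSpace.isCompact (U : Set X')).elim_finite_subcover
    (fun q : U => (SetLike.coe (PrimeSpectrum.basicOpen (φ (g q))) : Set X')) (fun q => (PrimeSpectrum.basicOpen _).2)
    fun q hq => Set.mem_iUnion.2 ⟨⟨q, hq⟩, hgq ⟨q, hq⟩⟩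
  let P := ModuleCat.of (CommRingCat.of (X.presheaf.stalk y)) (M₀.presheaf.stalk y)
  let G := tilde P
  have hG : ∀ q : U, GenOn G (res G (le_top : (PrimeSpectrum.basicOpen (φ (g q)) : X'.Opens) ≤ ⊤)
      (TwistLib.σT P (M₀.presheaf.germ W y hyW (m q)))) := fun q =>
    TwistLib.genOn_of_genAt fun w hw => (AmpleLib.genAt_res _ _ hw).2
      (TwistLib.genAt_σT P _ (genAt_stalk_data hW hyW (g q) (m q) (hgen q)) hw)
  obtain ⟨σ, hσ⟩ := (picTrivial_iff U).1 hpic G fun q hq =>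
    ⟨(PrimeSpectrum.basicOpen (φ (g ⟨q, hq⟩)) : X'.Opens) ⊓ U, ⟨hgq ⟨q, hq⟩, hq⟩, inf_le_right, _,
      (hG ⟨q, hq⟩).res inf_le_left⟩
  have hcoef : ∀ i : U, ∃ c : X.presheaf.stalk y, chi _ U c • σ =
      res G (le_top : U ≤ ⊤) (TwistLib.σT P (M₀.presheaf.germ W y hyW (m i))) := fun i => by
    obtain ⟨r, hr⟩ := (hσ U le_rfl).2 (res G (le_top : U ≤ ⊤) (TwistLib.σT P (M₀.presheaf.germ W y hyW (m i))))
    obtain ⟨c, rfl⟩ := hbij.2 r
    refine ⟨c, ?_⟩
    dsimp only at hr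
    rwa [AmpleLib.res_refl] at hr
  choose c hc using hcoef
  have hcu : ∀ i : U, ∀ q ∈ U, φ (g i) ∉ q.asIdeal → c i ∉ q.asIdeal := fun i q hqU hqi => by
    have h0 := (AmpleLib.genAt_res (le_top : (PrimeSpectrum.basicOpen (φ (g i)) : X'.Opens) ≤ ⊤)
      (TwistLib.σT P (M₀.presheaf.germ W y hyW (m i))) (x := q) hqi).1 ((hG i).genAt (x := q) hqi)
    have h1 := (AmpleLib.genAt_res (le_top : U ≤ ⊤)
      (TwistLib.σT P (M₀.presheaf.germ W y hyW (m i))) hqU).2 h0
    rw [← hc i, AmpleLib.genAt_smul_iff _ _ _ (hσ.genAt hqU)] at h1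
    exact ((mem_basicOpen_chi _).1 h1).2
  choose ρ s hs hρ using fun i : U => show ∃ r s : Γ(X, W), s ∉ p.asIdeal ∧ c i * φ s = φ r from by
    obtain ⟨⟨r, s, hs⟩, h⟩ := IsLocalization.surj p.asIdeal.primeCompl (c i)
    exact ⟨r, s, hs, h⟩
  -- relations
  have hrel : ∀ i j : U, ∃ (k : ℕ) (b u : Γ(X, W)), u ∉ p.asIdeal ∧ g i ^ k • m j = b • m i ∧
      u * (g i ^ k * (ρ j * s i) - b * (ρ i * s j)) = 0 := fun i j => by
    obtain ⟨c', hc'⟩ := (hgen i (X.basicOpen (g i)) le_rfl).2 (res M₀ (X.basicOpen_le (g i)) (m j))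
    dsimp only at hc'
    rw [AmpleLib.res_refl] at hc'
    haveI : Coh.IsQCoh (Coh.structureModule X) := (DevissLib.isCoh_structureModule X).1
    obtain ⟨k, b', hb⟩ := (QCohLib.localizingAt_of_isQCoh hW (Coh.structureModule X) (g i)).exists_extend c'
    have h0' : res M₀ (X.basicOpen_le (g i)) (g i ^ k • m j - (show Γ(X, W) from b') • m i) = 0 := by
      refine (map_sub (M₀.presheaf.map (homOfLE (X.basicOpen_le (g i))).op).hom _ _).trans (sub_eq_zero.2 ?_)
      show res M₀ _ _ = res M₀ _ _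
      rw [AmpleLib.res_smul, AmpleLib.res_smul, map_pow,
        show X.presheaf.map (homOfLE (X.basicOpen_le (g i))).op (show Γ(X, W) from b') = _ from hb, ← hc', smul_smul]
      rfl
    obtain ⟨l, hl⟩ := (QCohLib.localizingAt_of_isQCoh hW M₀ (g i)).eq_zero _ h0'
    rw [show X.presheaf.map (homOfLE (le_refl W)).op (g i) = g i from congr($(X.presheaf.map_id _) _),
      smul_sub, sub_eq_zero, smul_smul, smul_smul, ← pow_add] at hl
    let b : Γ(X, W) := g i ^ l * (show Γ(X, W) from b')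
    have h1 : φ (g i ^ (l + k)) * c j = φ b * c i := by
      refine hbij.1 ((hσ U le_rfl).1 ?_)
      dsimp only
      rw [AmpleLib.res_refl, map_mul, map_mul, mul_smul, mul_smul, hc, hc,
        show ∀ (a : X.presheaf.stalk y) (n : P), chi _ U a • res G (le_top : U ≤ ⊤) (TwistLib.σT P n) =
            res G (le_top : U ≤ ⊤) (TwistLib.σT P (a • n)) from fun a n => by
          rw [TwistLib.σT_smul, AmpleLib.res_smul]
          rfl,
        show ∀ (a : X.presheaf.stalk y) (n : P), chi _ U a • res G (le_top : U ≤ ⊤) (TwistLib.σT P n) =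
            res G (le_top : U ≤ ⊤) (TwistLib.σT P (a • n)) from fun a n => by
          rw [TwistLib.σT_smul, AmpleLib.res_smul]
          rfl]
      refine congrArg (fun n => res G (le_top : U ≤ ⊤) (TwistLib.σT P n)) ?_
      exact (AmpleLib.germ_smul M₀ _ _ hyW).symm.trans
        ((congrArg (M₀.presheaf.germ W y hyW) hl).trans (AmpleLib.germ_smul M₀ _ _ hyW))
    have h2 : φ (g i ^ (l + k) * (ρ j * s i) - b * (ρ i * s j)) = 0 := by
      refine (map_sub φ _ _).trans ((congrArg₂ (· - ·) ((map_mul φ _ _).trans (congrArg _ (map_mul φ _ _)))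
        ((map_mul φ b _).trans (congrArg _ (map_mul φ _ _)))).trans ?_)
      rw [← hρ, ← hρ]
      linear_combination (φ (s i) * φ (s j)) * h1
    obtain ⟨⟨u, hu⟩, h3⟩ := (IsLocalization.map_eq_zero_iff p.asIdeal.primeCompl _ _).1 h2
    exact ⟨l + k, b, u, hu, hl, h3⟩
  choose k b uu huu hm hu using hrel
  -- bad primes
  let B : Set (PrimeSpectrum Γ(X, W)) := ⋂ i ∈ t, PrimeSpectrum.zeroLocus {g i * ρ i}
  obtain ⟨h, hhp, hbad⟩ := exists_nhd_bad (B := B)
    (isClosed_biInter fun i _ => PrimeSpectrum.isClosed_zeroLocus _) p fun q hq hqB => by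
    have hd : Disjoint (p.asIdeal.primeCompl : Set Γ(X, W)) q.asIdeal :=
      Set.disjoint_left.2 fun r hr hrq => hr (hq.le hrq)
    let q' : X' := ⟨_, IsLocalization.isPrime_of_isPrime_disjoint p.asIdeal.primeCompl (X.presheaf.stalk y) q.asIdeal q.isPrime hd⟩
    have hqq : Ideal.comap φ q'.asIdeal = q.asIdeal :=
      IsLocalization.comap_map_of_isPrime_disjoint p.asIdeal.primeCompl (X.presheaf.stalk y) q.isPrime hd
    have hq'U : q' ∈ U := fun e : q' = IsLocalRing.closedPoint (X.presheaf.stalk y) => by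
      rw [e] at hqq
      refine hq.ne (le_antisymm hq.le fun r hr => ?_)
      rw [← hqq]
      exact (IsLocalization.AtPrime.to_map_mem_maximal_iff (X.presheaf.stalk y) p.asIdeal r).2 hr
    obtain ⟨i, hi, hqi⟩ := Set.mem_iUnion₂.1 (ht hq'U)
    have hmem : g i * ρ i ∈ q.asIdeal := Set.singleton_subset_iff.1 (Set.mem_iInter₂.1 hqB i hi)
    rw [← hqq, Ideal.mem_comap, map_mul, ← hρ] at hmem
    rcases q'.isPrime.mem_or_mem hmem with h | h
    · exact hqi h
    · rcases q'.isPrime.mem_or_mem h with h | h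
      · exact hcu i q' hq'U hqi h
      · exact hs i (hq.le (hqq ▸ h))
  let H : Γ(X, W) := h * (∏ i ∈ t, s i) * ∏ i ∈ t, ∏ j ∈ t, uu i j
  have hHp : H ∉ p.asIdeal := fun hh => by
    rcases p.isPrime.mem_or_mem hh with hh | hh
    · rcases p.isPrime.mem_or_mem hh with hh | hh
      · exact hhp hh
      · obtain ⟨i, -, hi⟩ := Ideal.IsPrime.prod_mem_iff.1 hh
        exact hs i hi
    · obtain ⟨i, -, hi⟩ := Ideal.IsPrime.prod_mem_iff.1 hh
      obtain ⟨j, -, hj⟩ := Ideal.IsPrime.prod_mem_iff.1 hi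
      exact huu i j hj
  let T : X.Opens := X.basicOpen H
  have hTW : T ≤ W := X.basicOpen_le H
  have hyT : y ∈ T := by
    rw [show T = hW.fromSpec ''ᵁ PrimeSpectrum.basicOpen H from (hW.fromSpec_image_basicOpen H).symm]
    exact ⟨p, hHp, hW.fromSpec_primeIdealOf ⟨y, hyW⟩⟩
  have hunit : ∀ d : Γ(X, W), d ∣ H → ∀ (S : X.Opens) (hS : S ≤ W), S ≤ T →
      IsUnit (X.presheaf.map (homOfLE hS).op d) := fun d hd S hS hST => by
    have hH : IsUnit (X.presheaf.map (homOfLE hS).op H) := by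
      refine X.toLocallyRingedSpace.toRingedSpace.isUnit_of_isUnit_germ S _ fun w hw => ?_
      show IsUnit (X.presheaf.germ S w hw (X.presheaf.map (homOfLE hS).op H))
      rw [TopCat.Presheaf.germ_res_apply]
      exact (Scheme.mem_basicOpen _ _ _ (hS hw)).1 (hST hw)
    exact isUnit_of_dvd_unit (map_dvd _ hd) hH
  let D : t → X.Opens := fun i => T ⊓ Y.compl ⊓ X.basicOpen (g i.1 * ρ i.1)
  have hDW : ∀ i, D i ≤ W := fun i => inf_le_right.trans (X.basicOpen_le _)
  have hρu : ∀ i : t, IsUnit (X.presheaf.map (homOfLE (hDW i)).op (ρ i.1)) := fun i => by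
    refine X.toLocallyRingedSpace.toRingedSpace.isUnit_of_isUnit_germ _ _ fun w hw => ?_
    show IsUnit (X.presheaf.germ (D i) w hw (X.presheaf.map (homOfLE (hDW i)).op (ρ i.1)))
    rw [TopCat.Presheaf.germ_res_apply]
    have := (inf_le_right : D i ≤ _) hw
    rw [Scheme.basicOpen_mul] at this
    exact (Scheme.mem_basicOpen _ _ _ (hDW i hw)).1 this.2
  choose v hv using fun i => (hρu i).exists_left_inv
  obtain ⟨τ, hτ⟩ := ModGlueLib.exists_glue (M := M₀) (V := T ⊓ Y.compl) D (fun i => inf_le_left)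
    (fun w hw => by
      obtain ⟨q, rfl⟩ : w ∈ Set.range hW.fromSpec := by rw [hW.range_fromSpec]; exact hTW hw.1
      have hHq : H ∉ q.asIdeal := by
        have h1 : q ∈ hW.fromSpec ⁻¹ᵁ X.basicOpen H := hw.1
        rw [hW.fromSpec_preimage_basicOpen] at h1
        exact h1
      have hqB : q ∉ B := fun hqB => hw.2 (by
        have h1 := (PrimeSpectrum.le_iff_specializes _ _).1 (show p ≤ q from hbad q hqB fun hh =>
          hHq (q.asIdeal.mem_of_dvd ((dvd_mul_right _ _).trans (dvd_mul_right _ _)) hh))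
        have h2 := h1.map hW.fromSpec.continuous
        rw [hW.fromSpec_primeIdealOf] at h2
        exact h2.mem_closed Y.isClosed hyY)
      obtain ⟨i, hi, hqi⟩ : ∃ i ∈ t, q ∉ PrimeSpectrum.zeroLocus {g i * ρ i} := by
        by_contra hn
        push Not at hn
        exact hqB (Set.mem_iInter₂.2 hn)
      refine ⟨⟨i, hi⟩, hw, ?_⟩
      show q ∈ hW.fromSpec ⁻¹ᵁ X.basicOpen (g i * ρ i)
      rw [hW.fromSpec_preimage_basicOpen]
      exact fun hh => hqi (Set.singleton_subset_iff.2 hh))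
    (fun i => v i • (X.presheaf.map (homOfLE (hDW i)).op (s i.1) • res M₀ (hDW i) (m i.1))) fun i j => by
      let S := D i ⊓ D j
      have hS : S ≤ W := inf_le_left.trans (hDW i)
      have hST : S ≤ T := inf_le_left.trans (inf_le_left.trans inf_le_left)
      let π : Γ(X, W) →+* Γ(X, S) := (X.presheaf.map (homOfLE hS).op).hom
      have hvi : X.presheaf.map (homOfLE (inf_le_left : S ≤ D i)).op (v i) * π (ρ i.1) = 1 := by
        have h1 := congrArg (X.presheaf.map (homOfLE (inf_le_left : S ≤ D i)).op).hom (hv i)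
        rw [map_mul, map_one, QCohLib.ringMap_map', homOfLE_comp] at h1
        exact h1
      have hvj : X.presheaf.map (homOfLE (inf_le_right : S ≤ D j)).op (v j) * π (ρ j.1) = 1 := by
        have h1 := congrArg (X.presheaf.map (homOfLE (inf_le_right : S ≤ D j)).op).hom (hv j)
        rw [map_mul, map_one, QCohLib.ringMap_map', homOfLE_comp] at h1
        exact h1
      have hm' : π (g i.1) ^ k i.1 j.1 • res M₀ hS (m j.1) = π (b i.1 j.1) • res M₀ hS (m i.1) := by
        have h1 := congrArg (res M₀ hS) (hm i.1 j.1)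
        rwa [AmpleLib.res_smul, AmpleLib.res_smul, map_pow] at h1
      have hc' : π (g i.1) ^ k i.1 j.1 * (π (ρ j.1) * π (s i.1)) = π (b i.1 j.1) * (π (ρ i.1) * π (s j.1)) := by
        refine sub_eq_zero.1 ((hunit (uu i.1 j.1) ?_ S hS hST).mul_right_eq_zero.1 ?_)
        · exact dvd_mul_of_dvd_right ((Finset.dvd_prod_of_mem _ j.2).trans
            (Finset.dvd_prod_of_mem (fun i => ∏ j ∈ t, uu i j) i.2)) _
        · show π _ * _ = 0
          rw [← map_pow, ← map_mul, ← map_mul, ← map_mul, ← map_mul, ← map_sub, ← map_mul, hu, map_zero]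
      have hgu : IsUnit (π (g i.1) ^ k i.1 j.1) := by
        refine IsUnit.pow _ (X.toLocallyRingedSpace.toRingedSpace.isUnit_of_isUnit_germ S _ fun w hw => ?_)
        show IsUnit (X.presheaf.germ S w hw (X.presheaf.map (homOfLE hS).op (g i.1)))
        rw [TopCat.Presheaf.germ_res_apply]
        have := ((inf_le_left : S ≤ D i).trans (inf_le_right : D i ≤ _)) hw
        rw [Scheme.basicOpen_mul] at this
        exact (Scheme.mem_basicOpen _ _ _ (hS hw)).1 this.1
      show res M₀ _ (v i • (_ • res M₀ (hDW i) (m i.1))) = res M₀ _ (v j • (_ • res M₀ (hDW j) (m j.1)))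
      rw [AmpleLib.res_smul, AmpleLib.res_smul, AmpleLib.res_smul, AmpleLib.res_smul, AmpleLib.res_res,
        AmpleLib.res_res, QCohLib.ringMap_map', QCohLib.ringMap_map', homOfLE_comp, homOfLE_comp]
      refine hgu.smul_left_cancel.1 ?_
      show π (g i.1) ^ k i.1 j.1 • _ • π (s i.1) • res M₀ hS (m i.1) =
        π (g i.1) ^ k i.1 j.1 • _ • π (s j.1) • res M₀ hS (m j.1)
      rw [smul_comm (π (g i.1) ^ k i.1 j.1) (X.presheaf.map (homOfLE inf_le_right).op (v j)),
        smul_comm (π (g i.1) ^ k i.1 j.1) (π (s j.1)), hm', smul_smul, smul_smul, smul_smul, smul_smul]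
      refine congrArg (· • res M₀ hS (m i.1)) ?_
      linear_combination (-(X.presheaf.map (homOfLE inf_le_left).op (v i) * π (g i.1) ^ k i.1 j.1 * π (s i.1))) * hvj +
        (X.presheaf.map (homOfLE inf_le_left).op (v i) * X.presheaf.map (homOfLE inf_le_right).op (v j)) * hc' +
        (X.presheaf.map (homOfLE inf_le_right).op (v j) * π (b i.1 j.1) * π (s j.1)) * hvi
  have hτgen : GenOn M₀ τ := TwistLib.genOn_of_genAt fun w hw => by
    obtain ⟨q, rfl⟩ : w ∈ Set.range hW.fromSpec := by rw [hW.range_fromSpec]; exact hTW hw.1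
    obtain ⟨i, hi⟩ : ∃ i, hW.fromSpec q ∈ D i := by
      have hHq : H ∉ q.asIdeal := by
        have h1 : q ∈ hW.fromSpec ⁻¹ᵁ X.basicOpen H := hw.1
        rw [hW.fromSpec_preimage_basicOpen] at h1
        exact h1
      have hqB : q ∉ B := fun hqB => hw.2 (by
        have h1 := (PrimeSpectrum.le_iff_specializes _ _).1 (show p ≤ q from hbad q hqB fun hh =>
          hHq (q.asIdeal.mem_of_dvd ((dvd_mul_right _ _).trans (dvd_mul_right _ _)) hh))
        have h2 := h1.map hW.fromSpec.continuous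
        rw [hW.fromSpec_primeIdealOf] at h2
        exact h2.mem_closed Y.isClosed hyY)
      obtain ⟨i, hi, hqi⟩ : ∃ i ∈ t, q ∉ PrimeSpectrum.zeroLocus {g i * ρ i} := by
        by_contra hn
        push Not at hn
        exact hqB (Set.mem_iInter₂.2 hn)
      refine ⟨⟨i, hi⟩, hw, ?_⟩
      show q ∈ hW.fromSpec ⁻¹ᵁ X.basicOpen (g i * ρ i)
      rw [hW.fromSpec_preimage_basicOpen]
      exact fun hh => hqi (Set.singleton_subset_iff.2 hh)
    have hgi : GenOn M₀ (res M₀ (hDW i) (m i.1)) := by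
      have h1 := (hgen i.1).res (show D i ≤ X.basicOpen (g i.1) from inf_le_right.trans (by
        rw [Scheme.basicOpen_mul]; exact inf_le_left))
      rwa [AmpleLib.res_res] at h1
    have h1 : GenAt M₀ (res M₀ (inf_le_left : D i ≤ T ⊓ Y.compl) τ) hi := by
      rw [show res M₀ (inf_le_left : D i ≤ T ⊓ Y.compl) τ =
          v i • (X.presheaf.map (homOfLE (hDW i)).op (s i.1) • res M₀ (hDW i) (m i.1)) from hτ i,
        smul_smul, AmpleLib.genAt_smul_iff _ _ hi (hgi.genAt hi), Scheme.mem_basicOpen _ _ _ hi]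
      refine IsUnit.map _ (IsUnit.mul (IsUnit.of_mul_eq_one _ (hv i)) (hunit _ ?_ _ _ (inf_le_left.trans inf_le_left)))
      exact dvd_mul_of_dvd_left (dvd_mul_of_dvd_right (Finset.dvd_prod_of_mem s i.2) _) _
    exact (AmpleLib.genAt_res _ τ hi).1 h1
  obtain ⟨τ', hτ'⟩ := (UFDExtLib.res_push_bijective A₀ L (inf_le_left : T ⊓ Y.compl ≤ T)
    (inf_le_inf_left T (inf_le_right : A₀ ≤ Y.compl))).2 τ
  refine ⟨T, hyT, hTW.trans hWV, τ', fun S hS => ?_⟩
  have hb := (hτgen (S ⊓ Y.compl) (inf_le_inf_right _ hS)).comp (h0 S)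
  have hres : Function.Bijective (res M₀ (inf_le_left : S ⊓ Y.compl ≤ S)) :=
    UFDExtLib.res_push_bijective A₀ L _ (inf_le_inf_left S (inf_le_right : A₀ ≤ Y.compl))
  refine (Function.Bijective.of_comp_iff' hres _).1 ?_
  refine (congrArg Function.Bijective (funext fun r => ?_)).mp hb
  simp only [Function.comp_apply, AmpleLib.res_smul, AmpleLib.res_res]
  rw [← hτ']
  exact congrArg _ (AmpleLib.res_res M₀ _ _ _)

end ParaFLib

end
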