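import Groth.Agent.ParaFLib.Depth
import Groth.Agent.ZClosLib.Depth
import Groth.Agent.ZClosLib.Criterion
import Groth.Agent.DevissLib.ClosedImm

/-!
# Functions near a point of a parafactorial pair
-/

set_option autoImplicit false
set_option linter.style.haveILetI false
universe u

open CategoryTheory AlgebraicGeometry TopologicalSpace Opposite

noncomputable section

namespace ParaFLib

variable {X : Scheme.{u}} [IsLocallyNoetherian X]

theorem isCoh_structure : Coh.IsCoh (Coh.structureModule X) :=
  DevissLib.isCoh_structureModule X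

theorem depth_stalk_of_pair {Y : Closeds ↥X} (h : ParaF.IsParafactorialPair X Y) {y : X} (hy : y ∈ Y) :
    (2 : ℕ∞) ≤ LocCoh.depth (X.presheaf.stalk y) (X.presheaf.stalk y) := by
  let F := Coh.structureModule X
  have hZ : StableUnderSpecialization (Y : Set X) := Y.isClosed.stableUnderSpecialization
  have hc : ZClos.IsZClosed (Y : Set X) F := (ZClosLib.isZClosed_iff_bijective_res hZ).2 fun T V _ =>
    ((pair_iff T.1).1 (isParafactorialPair_mono T.2 h)).1 V
  haveI : IsIso (ZClos.rhoApp (Y : Set X) F) := hc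
  haveI : IsIso (ZClos.rhoApp (Y : Set X) F).mapPresheaf :=
    inferInstanceAs (IsIso ((QCohLib.toAbF X ⋙ ObjectProperty.ι _).map (ZClos.rhoApp (Y : Set X) F)))
  have hat : ZClos.IsZClosedAt (Y : Set X) F y :=
    ConcreteCategory.bijective_of_isIso
      ((TopCat.Presheaf.stalkFunctor (C := Ab.{u}) y).map (ZClos.rhoApp (Y : Set X) F).mapPresheaf)
  have h2 := (ZClosLib.isZClosedAt_iff hZ isCoh_structure y).1 hat y (specializes_refl y) hy
  have hb := (AmpleLib.one_genOn (X := X) ⊤).genAt (x := y) trivial
  let e : X.presheaf.stalk y ≃ₗ[X.presheaf.stalk y] F.presheaf.stalk y :=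
    LinearEquiv.ofBijective (LinearMap.toSpanSingleton _ _
      ((Coh.structureModule X).presheaf.germ ⊤ y trivial (1 : Γ(X, ⊤)))) hb
  rw [CommAlgDim.depth_congr e]
  exact h2

theorem h0_stalk_of_pair {Y : Closeds ↥X} (h : ParaF.IsParafactorialPair X Y) {y : X} (hy : y ∈ Y) :
    H0 (FEt.puncturedSpec (X.presheaf.stalk y)) :=
  (h0_iff_depth _).2 (depth_stalk_of_pair h hy)

end ParaFLib

end
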