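import Groth.Agent.ParaFLib.StalkH0
import Groth.Agent.TwistLib.SpecInv
import Groth.Agent.TwistLib.SpecSections
import Groth.Agent.QCohLib.Push

/-!
# Invertible modules on the punctured spectrum at a point of a parafactorial pair
-/

set_option autoImplicit false
set_option linter.style.haveILetI false
universe u

open CategoryTheory AlgebraicGeometry TopologicalSpace Opposite
open AmpleLib (res GenOn GenAt)

noncomputable section

namespace ParaFLib

section Local

variable (A : Type u) [CommRing A]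

/-- The functions on an open of the spectrum coming from the ring. -/
abbrev chi (U : (Spec (CommRingCat.of A)).Opens) : A →+* Γ(Spec (CommRingCat.of A), U) :=
  ((Spec (CommRingCat.of A)).presheaf.map (homOfLE (le_top : U ≤ ⊤)).op).hom.comp
    (Scheme.ΓSpecIso (CommRingCat.of A)).inv.hom

theorem germ_chi {U : (Spec (CommRingCat.of A)).Opens} {q : Spec (CommRingCat.of A)} (hq : q ∈ U) (a : A) :
    (Spec (CommRingCat.of A)).presheaf.germ U q hq (chi A U a) = (StructureSheaf.toStalk A q).hom a :=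
  TopCat.Presheaf.germ_res_apply (Spec (CommRingCat.of A)).presheaf (homOfLE (le_top : U ≤ ⊤)) q hq
    ((Scheme.ΓSpecIso (CommRingCat.of A)).inv a)

theorem mem_basicOpen_chi {U : (Spec (CommRingCat.of A)).Opens} {q : Spec (CommRingCat.of A)} {a : A} :
    q ∈ (Spec (CommRingCat.of A)).basicOpen (chi A U a) ↔ q ∈ U ∧ a ∉ q.asIdeal := by
  constructor
  · intro h
    have hq := (Spec (CommRingCat.of A)).basicOpen_le _ h
    rw [Scheme.mem_basicOpen _ _ _ hq, germ_chi A hq] at h
    letI : Algebra A ((Spec (CommRingCat.of A)).presheaf.stalk q) := (StructureSheaf.toStalk A q).hom.toAlgebra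
    haveI : IsLocalization.AtPrime ((Spec (CommRingCat.of A)).presheaf.stalk q) q.asIdeal :=
      StructureSheaf.IsLocalization.to_stalk A q
    exact ⟨hq, (IsLocalization.AtPrime.isUnit_to_map_iff _ q.asIdeal a).1 h⟩
  · rintro ⟨hq, ha⟩
    rw [Scheme.mem_basicOpen _ _ _ hq, germ_chi A hq]
    letI : Algebra A ((Spec (CommRingCat.of A)).presheaf.stalk q) := (StructureSheaf.toStalk A q).hom.toAlgebra
    haveI : IsLocalization.AtPrime ((Spec (CommRingCat.of A)).presheaf.stalk q) q.asIdeal :=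
      StructureSheaf.IsLocalization.to_stalk A q
    exact (IsLocalization.AtPrime.isUnit_to_map_iff _ q.asIdeal a).2 ha

theorem exists_zero_of_toStalk {q : Spec (CommRingCat.of A)} {a : A}
    (h : (StructureSheaf.toStalk A q).hom a = 0) : ∃ u ∉ q.asIdeal, u * a = 0 := by
  letI : Algebra A ((Spec (CommRingCat.of A)).presheaf.stalk q) := (StructureSheaf.toStalk A q).hom.toAlgebra
  haveI : IsLocalization.AtPrime ((Spec (CommRingCat.of A)).presheaf.stalk q) q.asIdeal :=
    StructureSheaf.IsLocalization.to_stalk A q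
  obtain ⟨⟨u, hu⟩, h⟩ := (IsLocalization.map_eq_zero_iff q.asIdeal.primeCompl _ a).1 h
  exact ⟨u, hu, h⟩

/-- A local system of generators coming from global sections, with relations over the ring. -/
theorem exists_gens {U : (Spec (CommRingCat.of A)).Opens} (hc : IsCompact (U : Set (Spec (CommRingCat.of A))))
    (hqs : IsQuasiSeparated (U : Set (Spec (CommRingCat.of A)))) (hsur : Function.Surjective (chi A U))
    (G : (Spec (CommRingCat.of A)).Modules) [Coh.IsQCoh G] (hG : InvOn G U) :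
    ∃ (ι : Type u) (_ : Fintype ι) (a : ι → A) (m : ι → Γ(G, U)),
      (∀ q ∈ U, ∃ i, q ∈ (Spec (CommRingCat.of A)).basicOpen (chi A U (a i))) ∧
      (∀ i, GenOn G (res G ((Spec (CommRingCat.of A)).basicOpen_le (chi A U (a i))) (m i))) ∧
      ∀ i j, ∃ (k : ℕ) (b : A), chi A U (a i ^ k) • m j = chi A U b • m i := by
  classical
  let X' := Spec (CommRingCat.of A)
  have hbas : ∀ q : U, ∃ a : A, q.1 ∈ X'.basicOpen (chi A U a) ∧
      ∃ g : Γ(G, X'.basicOpen (chi A U a)), GenOn G g := fun q => by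
    obtain ⟨O, hqO, -, g, hg⟩ := hG q.1 q.2
    obtain ⟨_, ⟨a, rfl⟩, hqa, ha⟩ :=
      (Opens.isBasis_iff_nbhd.mp PrimeSpectrum.isBasis_basic_opens) (show q.1 ∈ O from hqO)
    have hle : X'.basicOpen (chi A U a) ≤ O := fun z hz => ha ((mem_basicOpen_chi A).1 hz).2
    exact ⟨a, (mem_basicOpen_chi A).2 ⟨q.2, hqa⟩, _, hg.res hle⟩
  choose a ha g hg using hbas
  obtain ⟨t, ht⟩ := hc.elim_finite_subcover (fun q : U => (X'.basicOpen (chi A U (a q)) : Set X'))
    (fun q => (X'.basicOpen _).2) fun q hq => Set.mem_iUnion.2 ⟨⟨q, hq⟩, ha ⟨q, hq⟩⟩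
  choose n m hm using fun q : U =>
    (QCohLib.localizingAt_of_qcqs G hc hqs (chi A U (a q))).exists_extend (g q)
  refine ⟨t, inferInstance, fun q => a q.1, fun q => m q.1, fun q hq => ?_, fun i => ?_, fun i j => ?_⟩
  · obtain ⟨i, hi, hqi⟩ := Set.mem_iUnion₂.1 (ht hq)
    exact ⟨⟨i, hi⟩, hqi⟩
  · refine TwistLib.genOn_of_genAt fun q hq => ?_
    show GenAt G (res G (X'.basicOpen_le (chi A U (a i.1))) (m i.1)) hq
    rw [show res G (X'.basicOpen_le (chi A U (a i.1))) (m i.1) = _ from hm i.1,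
      AmpleLib.genAt_smul_iff _ _ hq ((hg i.1).genAt hq), Scheme.mem_basicOpen _ _ _ hq, map_pow]
    exact (((Scheme.mem_basicOpen _ _ _ ((X'.basicOpen_le _) hq)).1 hq).map
      (RingHom.id _)).pow (n i.1) |> fun h => by rwa [TopCat.Presheaf.germ_res_apply]
  · let D := X'.basicOpen (chi A U (a i.1))
    have hD : D ≤ U := X'.basicOpen_le _
    obtain ⟨c, hc'⟩ := (show GenOn G (res G hD (m i.1)) from TwistLib.genOn_of_genAt fun q hq => by
      show GenAt G (res G hD (m i.1)) hq
      rw [show res G hD (m i.1) = _ from hm i.1,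
        AmpleLib.genAt_smul_iff _ _ hq ((hg i.1).genAt hq), Scheme.mem_basicOpen _ _ _ hq, map_pow,
        TopCat.Presheaf.germ_res_apply]
      exact ((Scheme.mem_basicOpen _ _ _ (hD hq)).1 hq).pow (n i.1)) D le_rfl |>.2 (res G hD (m j.1))
    haveI : Coh.IsQCoh (Coh.structureModule X') := (DevissLib.isCoh_structureModule X').1
    obtain ⟨k, b', hb⟩ := (QCohLib.localizingAt_of_qcqs (Coh.structureModule X') hc hqs (chi A U (a i.1))).exists_extend c
    obtain ⟨b, rfl⟩ := hsur b'
    have h0 : res G hD (chi A U (a i.1 ^ k) • m j.1 - chi A U b • m i.1) = 0 := by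
      refine (map_sub (G.presheaf.map (homOfLE hD).op).hom _ _).trans (sub_eq_zero.2 ?_)
      show res G hD _ = res G hD _
      rw [AmpleLib.res_smul, AmpleLib.res_smul, map_pow, map_pow,
        show X'.presheaf.map (homOfLE hD).op (chi A U b) = _ from hb, ← hc', smul_smul]
      dsimp only
      rw [AmpleLib.res_refl]
      rfl
    obtain ⟨l, hl⟩ := (QCohLib.localizingAt_of_qcqs G hc hqs (chi A U (a i.1))).eq_zero _ h0
    refine ⟨l + k, a i.1 ^ l * b, ?_⟩
    rw [show X'.presheaf.map (homOfLE (le_refl U)).op (chi A U (a i.1)) = chi A U (a i.1) from congr($(X'.presheaf.map_id _) _)] at hl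
    rw [smul_sub, sub_eq_zero, smul_smul, smul_smul] at hl
    simpa only [pow_add, map_mul, map_pow] using hl

/-- Compatible unit coefficients give a generator. -/
theorem exists_genOn_of_coef {U : (Spec (CommRingCat.of A)).Opens} (G : (Spec (CommRingCat.of A)).Modules)
    {ι : Type u} (a : ι → A) (m : ι → Γ(G, U)) (c : ι → A)
    (hcov : ∀ q ∈ U, ∃ i, q ∈ (Spec (CommRingCat.of A)).basicOpen (chi A U (a i)))
    (hgen : ∀ i, GenOn G (res G ((Spec (CommRingCat.of A)).basicOpen_le (chi A U (a i))) (m i)))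
    (hunit : ∀ i, ∀ q ∈ (Spec (CommRingCat.of A)).basicOpen (chi A U (a i)), c i ∉ q.asIdeal)
    (hrel : ∀ i j, ∃ (e b : A), (∀ q ∈ (Spec (CommRingCat.of A)).basicOpen (chi A U (a i)), e ∉ q.asIdeal) ∧
      chi A U e • m j = chi A U b • m i ∧ e * c j = b * c i) :
    ∃ σ : Γ(G, U), GenOn G σ := by
  classical
  let X' := Spec (CommRingCat.of A)
  let D : ι → X'.Opens := fun i => X'.basicOpen (chi A U (a i))
  have hD : ∀ i, D i ≤ U := fun i => X'.basicOpen_le _
  have hu : ∀ (V : X'.Opens) (h : V ≤ U) (d : A), (∀ q ∈ V, d ∉ q.asIdeal) →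
      IsUnit (X'.presheaf.map (homOfLE h).op (chi A U d)) := fun V h d hd => by
    refine X'.toLocallyRingedSpace.toRingedSpace.isUnit_of_isUnit_germ V _ fun q hq => ?_
    show IsUnit (X'.presheaf.germ V q hq (X'.presheaf.map (homOfLE h).op (chi A U d)))
    rw [TopCat.Presheaf.germ_res_apply]
    exact (Scheme.mem_basicOpen _ _ _ (h hq)).1 ((mem_basicOpen_chi A).2 ⟨h hq, hd q hq⟩)
  choose v hv using fun i => (hu (D i) (hD i) (c i) (hunit i)).exists_left_inv
  obtain ⟨σ, hσ⟩ := ModGlueLib.exists_glue (M := G) D hD (fun q hq => hcov q hq)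
    (fun i => v i • res G (hD i) (m i)) fun i j => by
      obtain ⟨e, b, he, hm, hc⟩ := hrel i j
      let T := D i ⊓ D j
      have hT : T ≤ U := inf_le_left.trans (hD i)
      let ρ : Γ(X', U) →+* Γ(X', T) := (X'.presheaf.map (homOfLE hT).op).hom
      have hvi : X'.presheaf.map (homOfLE (inf_le_left : T ≤ D i)).op (v i) * ρ (chi A U (c i)) = 1 := by
        have h1 := congrArg (X'.presheaf.map (homOfLE (inf_le_left : T ≤ D i)).op).hom (hv i)
        rw [map_mul, map_one, QCohLib.ringMap_map', homOfLE_comp] at h1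
        exact h1
      have hvj : X'.presheaf.map (homOfLE (inf_le_right : T ≤ D j)).op (v j) * ρ (chi A U (c j)) = 1 := by
        have h1 := congrArg (X'.presheaf.map (homOfLE (inf_le_right : T ≤ D j)).op).hom (hv j)
        rw [map_mul, map_one, QCohLib.ringMap_map', homOfLE_comp] at h1
        exact h1
      have hm' : ρ (chi A U e) • res G hT (m j) = ρ (chi A U b) • res G hT (m i) := by
        have h1 := congrArg (res G hT) hm
        rwa [AmpleLib.res_smul, AmpleLib.res_smul] at h1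
      have hc' : ρ (chi A U e) * ρ (chi A U (c j)) = ρ (chi A U b) * ρ (chi A U (c i)) := by
        rw [← map_mul, ← map_mul, hc, map_mul, map_mul]
      show res G _ (v i • res G (hD i) (m i)) = res G _ (v j • res G (hD j) (m j))
      rw [AmpleLib.res_smul, AmpleLib.res_smul, AmpleLib.res_res, AmpleLib.res_res]
      refine (hu T hT e fun q hq => he q hq.1).smul_left_cancel.1 ?_
      show ρ (chi A U e) • _ • res G hT (m i) = ρ (chi A U e) • _ • res G hT (m j)
      rw [smul_comm (ρ (chi A U e)) (X'.presheaf.map (homOfLE inf_le_right).op (v j)), hm', smul_smul, smul_smul]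
      refine congrArg (· • res G hT (m i)) ?_
      linear_combination (-(X'.presheaf.map (homOfLE inf_le_left).op (v i) * ρ (chi A U e))) * hvj +
        (X'.presheaf.map (homOfLE inf_le_left).op (v i) * X'.presheaf.map (homOfLE inf_le_right).op (v j)) * hc' +
        (X'.presheaf.map (homOfLE inf_le_right).op (v j) * ρ (chi A U b)) * hvi
  refine ⟨σ, TwistLib.genOn_of_genAt fun q hq => ?_⟩
  obtain ⟨i, hi⟩ := hcov q hq
  have h1 : GenAt G (res G (hD i) σ) hi := by
    rw [show res G (hD i) σ = v i • res G (hD i) (m i) from hσ i,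
      AmpleLib.genAt_smul_iff _ _ hi ((hgen i).genAt hi), Scheme.mem_basicOpen _ _ _ hi]
    have h2 := congrArg (X'.presheaf.germ (D i) q hi).hom (hv i)
    rw [map_mul, map_one] at h2
    exact IsUnit.of_mul_eq_one _ h2
  exact (AmpleLib.genAt_res (hD i) σ hi).1 h1

end Local

section Spread

variable {X : Scheme.{u}} [IsLocallyNoetherian X]

theorem app_fromSpec_res {W : X.Opens} (hW : IsAffineOpen W) {V : X.Opens} (h : V ≤ W) (r : Γ(X, W)) :
    hW.fromSpec.app V (X.presheaf.map (homOfLE h).op r) =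
      (Spec Γ(X, W)).presheaf.map (homOfLE (le_top : hW.fromSpec ⁻¹ᵁ V ≤ ⊤)).op
        ((Scheme.ΓSpecIso Γ(X, W)).inv r) := by
  rw [← CommRingCat.comp_apply, hW.fromSpec.naturality, hW.fromSpec_app_self, Category.assoc,
    ← Functor.map_comp]
  rfl

theorem genOn_push_le {Z : Scheme.{u}} (j : Z ⟶ X) [IsOpenImmersion j] {L₀ : Z.Modules} {W : X.Opens}
    (hW : W ≤ j.opensRange) {σ : Γ(L₀, j ⁻¹ᵁ W)} (hσ : GenOn L₀ σ) :
    GenOn ((Scheme.Modules.pushforward j).obj L₀) (W := W) σ := fun V hV => by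
  haveI := j.isIso_app V (hV.trans hW)
  exact (hσ (j ⁻¹ᵁ V) (j.preimage_mono hV)).comp (ConcreteCategory.bijective_of_isIso (j.app V))

theorem exists_nhd_bad {R : Type u} [CommRing R] [IsNoetherianRing R] {B : Set (PrimeSpectrum R)}
    (hB : IsClosed B) (p : PrimeSpectrum R) (hp : ∀ q : PrimeSpectrum R, q.asIdeal < p.asIdeal → q ∉ B) :
    ∃ h : R, h ∉ p.asIdeal ∧ ∀ q ∈ B, h ∉ q.asIdeal → p.asIdeal ≤ q.asIdeal := by
  classical
  let J := PrimeSpectrum.vanishingIdeal B
  have hJ : PrimeSpectrum.zeroLocus (J : Set R) = B := by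
    rw [PrimeSpectrum.zeroLocus_vanishingIdeal_eq_closure, hB.closure_eq]
  have hfin : (J.minimalPrimes \ {p.asIdeal}).Finite := (Ideal.finite_minimalPrimes_of_isNoetherianRing R J).sdiff
  by_cases hex : ∀ h ∈ hfin.toFinset.inf id, h ∈ p.asIdeal
  · obtain ⟨P, hP, hPp⟩ := (Ideal.IsPrime.inf_le' p.isPrime).1 (fun h hh => hex h hh)
    obtain ⟨hP1, hP2⟩ := hfin.mem_toFinset.1 hP
    exact absurd (show (⟨P, hP1.1.1⟩ : PrimeSpectrum R) ∈ B from hJ ▸ hP1.1.2)
      (hp ⟨P, hP1.1.1⟩ (lt_of_le_of_ne hPp fun e => hP2 e))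
  push Not at hex
  obtain ⟨h, hh, hhp⟩ := hex
  refine ⟨h, hhp, fun q hq hhq => ?_⟩
  have hJq : J ≤ q.asIdeal := by
    rw [← hJ] at hq
    exact hq
  obtain ⟨P, hP, hPq⟩ := Ideal.exists_minimalPrimes_le hJq
  by_contra hpq
  have hPm : P ∈ hfin.toFinset := hfin.mem_toFinset.2 ⟨hP, fun (e : P = p.asIdeal) => hpq (e ▸ hPq)⟩
  exact hhq (hPq ((Finset.inf_le hPm : hfin.toFinset.inf id ≤ P) hh))

theorem picTrivial_stalk_of_pair {Y : Closeds ↥X} (hY : ParaF.IsParafactorialPair X Y) {y : X} (hy : y ∈ Y) :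
    ParaF.PicTrivial (FEt.puncturedSpec (X.presheaf.stalk y) : Scheme.{u}) := by
  classical
  intro L hL
  let X' := Spec (CommRingCat.of (X.presheaf.stalk y))
  let U : X'.Opens := FEt.puncturedSpec (X.presheaf.stalk y)
  haveI : IsNoetherianRing (CommRingCat.of (X.presheaf.stalk y)) := inferInstanceAs (IsNoetherianRing (X.presheaf.stalk y))
  haveI : IsLocallyNoetherian X' := inferInstance
  haveI : NoetherianSpace X' := inferInstanceAs (NoetherianSpace (PrimeSpectrum (X.presheaf.stalk y)))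
  have hc : IsCompact (U : Set X') := NoetherianSpace.isCompact _
  have hqs : IsQuasiSeparated (U : Set X') := fun _ _ _ _ _ _ _ _ => NoetherianSpace.isCompact _
  haveI : Coh.IsQCoh L := TwistLib.isQCoh_of_isInvertible hL
  haveI : QuasiCompact U.ι := inferInstance
  haveI : Coh.IsQCoh ((Scheme.Modules.pushforward U.ι).obj L) := QCohLib.isQCoh_pushforward U.ι L
  suffices H : ∀ (G : X'.Modules) [Coh.IsQCoh G], InvOn G U → ∃ σ : Γ(G, U), GenOn G σ by
    obtain ⟨σ, hσ⟩ := H _ (invOn_push U hL)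
    obtain ⟨j⟩ := TwistLib.nonempty_iso_of_genOn σ hσ
    exact ⟨(asIso ((Scheme.Modules.restrictAdjunction U.ι).counit.app L)).symm ≪≫ j⟩
  intro G _ hG
  have hH0 := (h0_puncturedSpec_iff (X.presheaf.stalk y)).1 (h0_stalk_of_pair hY hy)
  have hsur : Function.Surjective (chi (X.presheaf.stalk y) U) := hH0.2.comp
    (ConcreteCategory.bijective_of_isIso (Scheme.ΓSpecIso (CommRingCat.of (X.presheaf.stalk y))).inv).2
  obtain ⟨ι, hι, a, m, hcov, hgen, hrel⟩ := exists_gens (X.presheaf.stalk y) hc hqs hsur G hG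
  obtain ⟨W, hW, hyW, -⟩ := exists_isAffineOpen_mem_and_subset (x := y) (U := (⊤ : X.Opens)) trivial
  let R := Γ(X, W)
  haveI : IsNoetherianRing R := IsLocallyNoetherian.component_noetherian ⟨W, hW⟩
  letI : Algebra R (X.presheaf.stalk y) := (X.presheaf.germ W y hyW).hom.toAlgebra
  let p := hW.primeIdealOf ⟨y, hyW⟩
  haveI : IsLocalization.AtPrime (X.presheaf.stalk y) p.asIdeal := hW.isLocalization_stalk ⟨y, hyW⟩
  let φ : R →+* X.presheaf.stalk y := algebraMap R (X.presheaf.stalk y)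
  have hsurA : ∀ b : X.presheaf.stalk y, ∃ r s : R, s ∉ p.asIdeal ∧ b * φ s = φ r := fun b => by
    obtain ⟨⟨r, s, hs⟩, h⟩ := IsLocalization.surj p.asIdeal.primeCompl b
    exact ⟨r, s, hs, h⟩
  have hzA : ∀ r : R, φ r = 0 → ∃ u ∉ p.asIdeal, u * r = 0 := fun r h => by
    obtain ⟨⟨u, hu⟩, h⟩ := (IsLocalization.map_eq_zero_iff p.asIdeal.primeCompl _ r).1 h
    exact ⟨u, hu, h⟩
  have hple : ∀ q : X', Ideal.comap φ q.asIdeal ≤ p.asIdeal := fun q r hr => by
    by_contra hrp
    exact q.isPrime.ne_top (Ideal.eq_top_of_isUnit_mem _ hr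
      (IsLocalization.map_units (X.presheaf.stalk y) (⟨r, hrp⟩ : p.asIdeal.primeCompl)))
  letI : Module R Γ(G, U) := Module.compHom _ ((chi (X.presheaf.stalk y) U).comp φ)
  let M : Submodule R Γ(G, U) := Submodule.span R (Set.range m)
  haveI : Module.Finite R M := Module.Finite.span_of_finite R (Set.finite_range m)
  let mi : ι → M := fun i => ⟨m i, Submodule.subset_span ⟨i, rfl⟩⟩
  -- relations over `R`
  have hrelR : ∀ i j, ∃ e b : R, (∀ q ∈ X'.basicOpen (chi _ U (a i)), φ e ∉ q.asIdeal) ∧ e • mi j = b • mi i := by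
    intro i j
    obtain ⟨k, b, hb⟩ := hrel i j
    obtain ⟨r, s, hs, hr⟩ := hsurA (a i ^ k)
    obtain ⟨r', s', hs', hr'⟩ := hsurA b
    refine ⟨r * s', r' * s, fun q hq => ?_, Subtype.ext ?_⟩
    · obtain ⟨-, ha⟩ := (mem_basicOpen_chi _).1 hq
      rw [map_mul, ← hr]
      refine fun h => ?_
      rcases q.isPrime.mem_or_mem h with h | h
      · rcases q.isPrime.mem_or_mem h with h | h
        · exact ha (q.isPrime.mem_of_pow_mem k h)
        · exact hs (hple q h)
      · exact hs' (hple q h)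
    · show chi _ U (φ (r * s')) • m j = chi _ U (φ (r' * s)) • m i
      rw [show φ (r * s') = φ s * φ s' * a i ^ k by rw [map_mul, ← hr]; ring,
        show φ (r' * s) = φ s * φ s' * b by rw [map_mul, ← hr']; ring,
        map_mul (chi _ U) (φ s * φ s') (a i ^ k), map_mul (chi _ U) (φ s * φ s') b, mul_smul, mul_smul, hb]
  -- the good primes
  let Gd : ι → Set (PrimeSpectrum R) := fun i =>
    {q | ∃ g ∉ q.asIdeal, TwistLib.LocBij (Submonoid.powers g) (LinearMap.toSpanSingleton R M (mi i))}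
  have hGd : ∀ i, IsOpen (Gd i) := fun i => by
    rw [isOpen_iff_forall_mem_open]
    rintro q ⟨g, hg, hb⟩
    exact ⟨PrimeSpectrum.basicOpen g, fun q' hq' => ⟨g, hq', hb⟩, (PrimeSpectrum.basicOpen g).2, hg⟩
  have hgood : ∀ i, ∀ q ∈ X'.basicOpen (chi _ U (a i)), PrimeSpectrum.comap φ q ∈ Gd i := by
    intro i q hq
    choose e b he hb using hrelR i
    obtain ⟨hqU, -⟩ := (mem_basicOpen_chi _).1 hq
    obtain ⟨T, hT⟩ := (inferInstance : IsNoetherian R R).noetherian
      (LinearMap.ker (LinearMap.toSpanSingleton R M (mi i)))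
    have hker : ∀ r ∈ T, ∃ u : R, φ u ∉ q.asIdeal ∧ u * r = 0 := fun r hr => by
      have h1 : chi _ U (φ r) • m i = 0 := congrArg Subtype.val
        (show r • mi i = 0 from LinearMap.mem_ker.1 (hT ▸ Submodule.subset_span hr))
      have h2 := congrArg (G.presheaf.germ U q hqU) h1
      rw [map_zero, AmpleLib.germ_smul, germ_chi] at h2
      have h3 : (StructureSheaf.toStalk _ q).hom (φ r) = 0 := by
        refine ((hgen i).genAt hq).1 ?_
        dsimp only
        rw [AmpleLib.germ_res]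
        exact h2.trans (zero_smul (X'.presheaf.stalk q) _).symm
      obtain ⟨u, hu, hur⟩ := exists_zero_of_toStalk _ h3
      obtain ⟨r', s, hs, hr'⟩ := hsurA u
      have h4 : φ (r' * r) = 0 := by rw [map_mul, ← hr', mul_right_comm, hur, zero_mul]
      obtain ⟨w, hw, hwr⟩ := hzA _ h4
      refine ⟨w * r', ?_, by rw [mul_assoc]; exact hwr⟩
      rw [map_mul, ← hr']
      intro h
      rcases q.isPrime.mem_or_mem h with h | h
      · exact hw (hple q h)
      · rcases q.isPrime.mem_or_mem h with h | h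
        · exact hu h
        · exact hs (hple q h)
    choose! u hu hur using hker
    let g : R := (∏ j, e j) * ∏ r ∈ T, u r
    refine ⟨g, fun h => ?_, fun r hr => ?_, fun n => ?_⟩
    · have h' : φ g ∈ q.asIdeal := h
      rw [map_mul, map_prod, map_prod] at h'
      rcases q.isPrime.mem_or_mem h' with h | h
      · obtain ⟨j, -, hj⟩ := Ideal.IsPrime.prod_mem_iff.1 h
        exact he j q hq hj
      · obtain ⟨r, hr, hj⟩ := Ideal.IsPrime.prod_mem_iff.1 h
        exact hu r hr hj
    · refine ⟨g, Submonoid.mem_powers g, ?_⟩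
      have h1 : r ∈ LinearMap.ker (LinearMap.toSpanSingleton R M (mi i)) := hr
      rw [← hT] at h1
      clear hr
      induction h1 using Submodule.span_induction with
      | mem r hr =>
        show g * r = 0
        obtain ⟨c, hc⟩ := Finset.dvd_prod_of_mem u hr
        show (∏ j, e j) * (∏ r ∈ T, u r) * r = 0
        rw [hc, mul_assoc, mul_right_comm, hur r hr, zero_mul, mul_zero]
      | zero => exact smul_zero g
      | add x y _ _ hx hy => rw [smul_add, hx, hy, add_zero]
      | smul c x _ hx => rw [smul_comm, hx, smul_zero]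
    · obtain ⟨n, hn⟩ := n
      refine ⟨g, Submonoid.mem_powers g, ?_⟩
      suffices h : ∃ c : R, c • m i = g • n by
        obtain ⟨c, hc⟩ := h
        exact ⟨c, Subtype.ext hc⟩
      induction hn using Submodule.span_induction with
      | mem x hx =>
        obtain ⟨j, rfl⟩ := hx
        obtain ⟨c, hc⟩ := Finset.dvd_prod_of_mem e (Finset.mem_univ j)
        refine ⟨c * (∏ r ∈ T, u r) * b j, ?_⟩
        have h1 : e j • m j = b j • m i := congrArg Subtype.val (hb j)
        rw [mul_smul, ← h1, ← mul_smul]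
        congr 1
        show c * (∏ r ∈ T, u r) * e j = (∏ j, e j) * ∏ r ∈ T, u r
        rw [hc]; ring
      | zero => exact ⟨0, by rw [zero_smul, smul_zero]⟩
      | add x y _ _ hx hy =>
        obtain ⟨c, hc⟩ := hx
        obtain ⟨c', hc'⟩ := hy
        exact ⟨c + c', by rw [add_smul, hc, hc', smul_add]⟩
      | smul r x _ hx =>
        obtain ⟨c, hc⟩ := hx
        exact ⟨r * c, by rw [mul_smul, hc, smul_comm]⟩
  -- a neighbourhood without bad primes
  let pt : X' → PrimeSpectrum R := PrimeSpectrum.comap φ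
  have hpt : ∀ q : X', hW.fromSpec (pt q) = X.fromSpecStalk y q := fun q =>
    congrArg (fun f : X' ⟶ X => f q) (hW.fromSpecStalk_eq_fromSpecStalk hyW)
  obtain ⟨h, hhp, hbad⟩ := exists_nhd_bad (B := (⋃ i, Gd i)ᶜ) (isOpen_iUnion hGd).isClosed_compl p fun q hq => by
    refine not_not.2 ?_
    obtain ⟨q', hq'⟩ : ∃ q' : X', pt q' = q := by
      have hd : Disjoint (p.asIdeal.primeCompl : Set R) q.asIdeal :=
        Set.disjoint_left.2 fun r hr hrq => hr (hq.le hrq)
      exact ⟨⟨_, IsLocalization.isPrime_of_isPrime_disjoint p.asIdeal.primeCompl (X.presheaf.stalk y) q.asIdeal q.isPrime hd⟩,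
        PrimeSpectrum.ext (IsLocalization.comap_map_of_isPrime_disjoint p.asIdeal.primeCompl (X.presheaf.stalk y) q.isPrime hd)⟩
    have hq'U : q' ∈ U := fun e : q' = IsLocalRing.closedPoint (X.presheaf.stalk y) => by
      subst e
      rw [← hq'] at hq
      exact hq.ne (le_antisymm hq.le fun r hr =>
        ((IsLocalization.AtPrime.to_map_mem_maximal_iff (X.presheaf.stalk y) p.asIdeal r).2 hr))
    obtain ⟨i, hi⟩ := hcov q' hq'U
    exact Set.mem_iUnion.2 ⟨i, hq' ▸ hgood i q' hi⟩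
  -- the module on `X`
  let Mt := tilde (ModuleCat.of Γ(X, W) M)
  let MX := (Scheme.Modules.pushforward hW.fromSpec).obj Mt
  let sec : ∀ (V : X.Opens), M → Γ(MX, V) := fun V n =>
    res Mt (le_top : hW.fromSpec ⁻¹ᵁ V ≤ ⊤) (TwistLib.σT (ModuleCat.of Γ(X, W) M) n)
  have hsmul : ∀ (V : X.Opens) (hV : V ≤ W) (r : R) (n : M),
      sec V (r • n) = X.presheaf.map (homOfLE hV).op r • sec V n := fun V hV r n => by
    exact (congrArg (res Mt _) (TwistLib.σT_smul (ModuleCat.of Γ(X, W) M) r n)).trans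
      ((AmpleLib.res_smul Mt _ _ _).trans (congrArg (fun c : Γ(Spec Γ(X, W), hW.fromSpec ⁻¹ᵁ V) => c • (show Γ(Mt, hW.fromSpec ⁻¹ᵁ V) from sec V n)) (app_fromSpec_res hW hV r).symm))
  have hsecgen : ∀ i, ∀ q ∈ Gd i, ∃ O : X.Opens, hW.fromSpec q ∈ O ∧ O ≤ W ∧ GenOn MX (sec O (mi i)) := by
    rintro i q ⟨g, hg, hb⟩
    refine ⟨X.basicOpen g, ?_, X.basicOpen_le g, genOn_push_le hW.fromSpec ?_ ?_⟩
    · rw [← hW.fromSpec_image_basicOpen]; exact ⟨q, hg, rfl⟩
    · rw [hW.opensRange_fromSpec]; exact X.basicOpen_le g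
    · refine TwistLib.genOn_of_genAt fun x hx => (AmpleLib.genAt_res _ _ hx).2 ?_
      refine TwistLib.genAt_σT _ _ hb ?_
      rw [hW.fromSpec_preimage_basicOpen] at hx
      exact hx
  let Y' : Closeds X := ⟨closure {y}, isClosed_closure⟩
  have hY' : Y' ≤ Y := Y.isClosed.closure_subset_iff.2 (Set.singleton_subset_iff.2 hy)
  obtain ⟨h0', hext⟩ := (pair_iff Y').1 (isParafactorialPair_mono hY' hY)
  have hinv : InvOn MX (X.basicOpen h ⊓ Y'.compl) := by
    rintro z ⟨hz, hzY⟩
    obtain ⟨q, rfl⟩ : z ∈ Set.range hW.fromSpec := by rw [hW.range_fromSpec]; exact X.basicOpen_le h hz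
    have hhq : h ∉ q.asIdeal := (show q ∈ hW.fromSpec ⁻¹ᵁ X.basicOpen h from hz) |> fun h' => by
      rw [hW.fromSpec_preimage_basicOpen] at h'; exact h'
    have hqB : q ∈ ⋃ i, Gd i := by
      by_contra hqB
      refine hzY ?_
      have := (PrimeSpectrum.le_iff_specializes _ _).1 (show p ≤ q from hbad q hqB hhq)
      have h2 := this.map hW.fromSpec.continuous
      rw [hW.fromSpec_primeIdealOf] at h2
      exact specializes_iff_mem_closure.1 h2
    obtain ⟨i, hi⟩ := Set.mem_iUnion.1 hqB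
    obtain ⟨O, hqO, -, hO⟩ := hsecgen i q hi
    exact ⟨O ⊓ (X.basicOpen h ⊓ Y'.compl), ⟨hqO, hz, hzY⟩, inf_le_right, _, hO.res inf_le_left⟩
  have hyh : y ∈ X.basicOpen h := by
    rw [← hW.fromSpec_image_basicOpen]
    exact ⟨p, hhp, hW.fromSpec_primeIdealOf ⟨y, hyW⟩⟩
  obtain ⟨O₁, hyO₁, hO₁, σ₁, hσ₁⟩ := hext MX (X.basicOpen h) hinv y hyh
  obtain ⟨O, hO, hyO, hOO₁⟩ := exists_isAffineOpen_mem_and_subset (x := y) (U := O₁) hyO₁
  have hOle : O ⊓ Y'.compl ≤ O₁ ⊓ Y'.compl := inf_le_inf_right _ hOO₁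
  have hσ := hσ₁.res hOle
  let σ := res MX hOle σ₁
  have hOW : O ⊓ Y'.compl ≤ W := inf_le_left.trans ((show O ≤ O₁ from hOO₁).trans (hO₁.trans (X.basicOpen_le h)))
  have hOW' : O ≤ W := (show O ≤ O₁ from hOO₁).trans (hO₁.trans (X.basicOpen_le h))
  choose r hr using fun i => (hσ _ le_rfl).2 (sec (O ⊓ Y'.compl) (mi i))
  choose r' hr' using fun i => (h0' O).2 (r i)
  refine exists_genOn_of_coef _ G a m (fun i => X.presheaf.germ O y hyO (r' i)) hcov hgen ?_ ?_
  · intro i q hq hmem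
    obtain ⟨hqU, -⟩ := (mem_basicOpen_chi _).1 hq
    obtain ⟨T, hzT, hTW, hT⟩ := hsecgen i (pt q) (hgood i q hq)
    let q₂ := PrimeSpectrum.comap (X.presheaf.germ O y hyO).hom q
    have hz₂ : hO.fromSpec q₂ = X.fromSpecStalk y q :=
      congrArg (fun f : X' ⟶ X => f q) (hO.fromSpecStalk_eq_fromSpecStalk hyO)
    set z := X.fromSpecStalk y q with hz
    have hzO : z ∈ O := by
      rw [← hz₂, ← SetLike.mem_coe, ← hO.range_fromSpec]; exact ⟨q₂, rfl⟩
    have hzY : z ∈ Y'.compl := fun hzc => by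
      have h1 : z = y := ((show z ⤳ y from (show z ∈ {w | w ⤳ y} from X.range_fromSpecStalk (x := y) ▸ ⟨q, rfl⟩)).antisymm
        (specializes_iff_mem_closure.2 hzc)).eq
      refine hqU ((X.fromSpecStalk y).isEmbedding.injective (?_ : _ = X.fromSpecStalk y (IsLocalRing.closedPoint _)))
      rw [Scheme.fromSpecStalk_closedPoint, ← hz, h1]
    have hzT' : z ∈ T := by rw [hpt] at hzT; exact hzT
    have h1 : GenAt MX (sec (O ⊓ Y'.compl) (mi i)) (show z ∈ O ⊓ Y'.compl from ⟨hzO, hzY⟩) := by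
      have h2 := hT.genAt hzT'
      have e1 : res MX (inf_le_right : O ⊓ Y'.compl ⊓ T ≤ T) (sec T (mi i)) =
          res MX (inf_le_left : O ⊓ Y'.compl ⊓ T ≤ O ⊓ Y'.compl) (sec (O ⊓ Y'.compl) (mi i)) :=
        (AmpleLib.res_res Mt _ _ _).trans (AmpleLib.res_res Mt _ _ _).symm
      have h3 := (AmpleLib.genAt_res (inf_le_right : O ⊓ Y'.compl ⊓ T ≤ T) (sec T (mi i))
        (show z ∈ O ⊓ Y'.compl ⊓ T from ⟨⟨hzO, hzY⟩, hzT'⟩)).2 h2
      rw [e1] at h3
      exact (AmpleLib.genAt_res _ _ _).1 h3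
    rw [← hr i] at h1
    dsimp only at h1
    rw [AmpleLib.res_refl, AmpleLib.genAt_smul_iff _ _ _ ((hσ.genAt _)), ← hr' i, Scheme.basicOpen_res] at h1
    have h4 : q₂ ∈ hO.fromSpec ⁻¹ᵁ X.basicOpen (r' i) := by
      show hO.fromSpec q₂ ∈ X.basicOpen (r' i)
      rw [hz₂]
      exact h1.2
    rw [hO.fromSpec_preimage_basicOpen] at h4
    exact h4 hmem
  · intro i j
    obtain ⟨e, b, he, hb⟩ := hrelR i j
    refine ⟨φ e, φ b, he, congrArg Subtype.val hb, ?_⟩
    have h1 := congrArg (sec (O ⊓ Y'.compl)) hb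
    rw [hsmul _ hOW, hsmul _ hOW, ← hr i, ← hr j] at h1
    dsimp only at h1
    rw [AmpleLib.res_refl, smul_smul, smul_smul] at h1
    have h2 : X.presheaf.map (homOfLE hOW).op e * r j = X.presheaf.map (homOfLE hOW).op b * r i :=
      (hσ _ le_rfl).1 (by dsimp only; rw [AmpleLib.res_refl]; exact h1)
    have h3 : X.presheaf.map (homOfLE hOW').op e * r' j = X.presheaf.map (homOfLE hOW').op b * r' i := by
      refine (h0' O).1 ?_
      rw [map_mul, map_mul, hr', hr', QCohLib.ringMap_map', QCohLib.ringMap_map', homOfLE_comp]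
      exact h2
    have h4 := congrArg (X.presheaf.germ O y hyO).hom h3
    rw [map_mul, map_mul, TopCat.Presheaf.germ_res_apply, TopCat.Presheaf.germ_res_apply] at h4
    exact h4

end Spread

end ParaFLib

end
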